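import Groth.Agent.L28.Spz.Global
import Groth.Agent.L28.ExtShriek.Stalks

/-!
Cardinality loci of the stalks of a constructible sheaf.
-/

set_option autoImplicit false
set_option linter.style.haveILetI false

universe u

open CategoryTheory CategoryTheory.Limits AlgebraicGeometry Opposite Topology

set_option backward.isDefEq.respectTransparency.types false

namespace Groth.L28.Spz

theorem range_eq_singleton {X : Scheme.{u}} {Ω : Type u} [Field Ω] (ξ : Spec (CommRingCat.of Ω) ⟶ X) {x : X}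
    (h : ξ default = x) : Set.range ξ = {x} := by
  refine Set.eq_singleton_iff_unique_mem.2 ⟨⟨default, h⟩, ?_⟩
  rintro _ ⟨z, rfl⟩
  exact (congrArg _ (Subsingleton.elim (α := Spec (CommRingCat.of Ω)) z default)).trans h

theorem default_eq_of_range {X : Scheme.{u}} {Ω : Type u} [Field Ω] {ξ : Spec (CommRingCat.of Ω) ⟶ X} {x : X}
    (h : Set.range ξ = {x}) : ξ default = x :=
  h.subset ⟨default, rfl⟩

/-- the points where the stalk has `n` elements -/
def cardLocus {X : Scheme.{u}} (F : EtCoh.Ab X) (n : ℕ) : Set X :=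
  {x | ∀ (Ω : Type u) [Field Ω] [IsSepClosed Ω] (ξ : Spec (CommRingCat.of Ω) ⟶ X), ξ default = x →
    Nat.card ((EtCoh.stalk ξ).obj F) = n}

theorem card_pull {T X : Scheme.{u}} (g : T ⟶ X) (F : EtCoh.Ab X) {Ω : Type u} [Field Ω] [IsSepClosed Ω]
    (ξ : Spec (CommRingCat.of Ω) ⟶ T) :
    Nat.card ((EtCoh.stalk ξ).obj ((EtCoh.pull g).obj F)) = Nat.card ((EtCoh.stalk (ξ ≫ g)).obj F) :=
  Nat.card_congr ((Groth.L27.EtSite.stalkPullIso g ξ).app F).addCommGroupIsoToAddEquiv.toEquiv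

theorem preimage_cardLocus {T X : Scheme.{u}} (g : T ⟶ X) (F : EtCoh.Ab X) (n : ℕ) :
    g ⁻¹' cardLocus F n = cardLocus ((EtCoh.pull g).obj F) n := by
  ext t
  constructor
  · intro h Ω _ _ ξ hξ
    rw [card_pull]
    exact h Ω (ξ ≫ g) ((Scheme.Hom.comp_apply _ _ _).trans (congrArg g hξ))
  · intro h Ω _ _ ξ hξ
    obtain ⟨Ω', _, _, ξ', hξ'⟩ := Groth.L27.EtSite.exists_geometric_point t
    rw [← h Ω' ξ' hξ', card_pull]
    refine card_eq F (ξ' ≫ g) ξ ?_
    rw [hξ, Scheme.Hom.comp_apply]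
    exact congrArg g hξ'

theorem isClopen_cardLocus {T : Scheme.{u}} {H : EtCoh.Ab T} (hH : EtCoh.IsFiniteLocallyConstant H) (n : ℕ) :
    IsClopen (cardLocus H n) := by
  obtain ⟨ι, U, hU, h⟩ := hH
  choose M instM hfin e using h
  have key : ∀ i, ∀ t ∈ Set.range (U i).hom, t ∈ cardLocus H n ↔ Nat.card (ULift.{u + 1} (M i)) = n := by
    rintro i t ⟨z, hz⟩
    constructor
    · intro h
      obtain ⟨Ω, _, _, ξ, hξ⟩ := Groth.L27.EtSite.exists_geometric_point t
      obtain ⟨y, -⟩ := Groth.L27.EtSite.exists_fiber ξ (U i) z (hz.trans hξ.symm)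
      obtain ⟨e'⟩ := Locus.stalk_trivialised (e i).some ξ y
      exact (Nat.card_congr e'.addCommGroupIsoToAddEquiv.toEquiv).symm.trans (h Ω ξ hξ)
    · intro h Ω _ _ ξ hξ
      obtain ⟨y, -⟩ := Groth.L27.EtSite.exists_fiber ξ (U i) z (hz.trans hξ.symm)
      obtain ⟨e'⟩ := Locus.stalk_trivialised (e i).some ξ y
      exact (Nat.card_congr e'.addCommGroupIsoToAddEquiv.toEquiv).trans h
  have hopen : ∀ i, IsOpen (Set.range (U i).hom) := fun i => by
    haveI : AlgebraicGeometry.Etale (U i).hom := (U i).prop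
    exact (U i).hom.isOpenMap.isOpen_range
  constructor
  · refine isOpen_compl_iff.1 (isOpen_iff_forall_mem_open.2 fun t ht => ?_)
    obtain ⟨i, z, hz⟩ := hU t
    exact ⟨_, fun s hs hs' => ht ((key i t ⟨z, hz⟩).2 ((key i s hs).1 hs')), hopen i, ⟨z, hz⟩⟩
  · refine isOpen_iff_forall_mem_open.2 fun t ht => ?_
    obtain ⟨i, z, hz⟩ := hU t
    exact ⟨_, fun s hs => (key i s hs).2 ((key i t ⟨z, hz⟩).1 ht), hopen i, ⟨z, hz⟩⟩

theorem isConstructible_cardLocus {X : Scheme.{u}} [CompactSpace X] [QuasiSeparatedSpace X] {H : EtCoh.Ab X}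
    (hH : EtPBC.IsConstructible H) (n : ℕ) : Topology.IsConstructible (cardLocus H n) := by
  rw [Strata.isConstructible_iff, Strata.loc_iff_strat (Strata.stable_lcPred H)] at hH
  obtain ⟨m, T, g, h1, h2, -, h4, h5⟩ := hH
  have e : cardLocus H n = ⋃ i, g i '' cardLocus ((EtCoh.pull (g i)).obj H) n := by
    ext x
    simp only [Set.mem_iUnion, ← preimage_cardLocus]
    constructor
    · intro hx
      obtain ⟨i, t, rfl⟩ := Set.mem_iUnion.1 (h4.symm ▸ Set.mem_univ x : x ∈ ⋃ i, Set.range (g i))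
      exact ⟨i, t, hx, rfl⟩
    · rintro ⟨i, t, ht, rfl⟩
      exact ht
  rw [e]
  refine IsConstructible.iUnion fun i => ?_
  haveI := h1 i
  haveI : CompactSpace (T i) := ⟨(g i).isEmbedding.isCompact_iff.2 (by
    rw [Set.image_univ]; exact Strata.isCompact_of_isConstructible (h2 i))⟩
  haveI : QuasiSeparatedSpace (T i) := quasiSeparatedSpace_of_quasiSeparated (g i)
  have hcl := isClopen_cardLocus (h5 i) n
  exact Strata.isConstructible_image (g i) (h2 i) (hcl.1.isCompact.isConstructible hcl.2)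

variable {X : Scheme.{u}}

theorem setOf_exists_eq (F : EtCoh.Ab X) (n : ℕ) :
    {x : X | ∃ (Ω : Type u) (_ : Field Ω) (_ : IsSepClosed Ω) (ξ : Spec (CommRingCat.of Ω) ⟶ X),
        Set.range ξ = {x} ∧ Nat.card ((EtCoh.stalk ξ).obj F) = n} = cardLocus F n := by
  ext x
  constructor
  · rintro ⟨Ω', _, _, ξ', hr, hc⟩ Ω _ _ ξ hξ
    exact (card_eq F ξ' ξ ((default_eq_of_range hr).trans hξ.symm)).trans hc
  · intro h
    obtain ⟨Ω, _, _, ξ, hξ⟩ := Groth.L27.EtSite.exists_geometric_point x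
    exact ⟨Ω, inferInstance, inferInstance, ξ, range_eq_singleton ξ hξ, h Ω ξ hξ⟩

theorem isLocallyConstructible_cardLocus {F : EtCoh.Ab X} (hF : EtPBC.IsConstructible F) (n : ℕ) :
    Topology.IsLocallyConstructible (cardLocus F n) := by
  intro x
  obtain ⟨W, hW, hxW, -⟩ := Strata.exists_affine (X := X) (x := x) (Set.mem_univ _) isOpen_univ
  haveI : IsAffine W.toScheme := hW
  refine ⟨W, W.2.mem_nhds hxW, W.2, ?_⟩
  have h := isConstructible_cardLocus (ExtShriek.isConstructible_pull W.ι hF) n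
  rw [← preimage_cardLocus] at h
  exact h

theorem finite_stalk' {F : EtCoh.Ab X} (hF : EtPBC.IsConstructible F) {Ω : Type u} [Field Ω] [IsSepClosed Ω]
    (ξ : Spec (CommRingCat.of Ω) ⟶ X) : Finite ((EtCoh.stalk ξ).obj F) := by
  obtain ⟨W, hW, hxW, -⟩ := Strata.exists_affine (X := X) (x := ξ default) (Set.mem_univ _) isOpen_univ
  haveI : IsAffine W.toScheme := hW
  obtain ⟨ξ', rfl⟩ := EtModStalk.exists_lift W.ι ξ (by rw [Scheme.Opens.range_ι]; exact hxW)
  haveI : Finite ((EtCoh.pull W.ι ⋙ EtCoh.stalk ξ').obj F) := ExtShriek.finite_stalk (ExtShriek.isConstructible_pull W.ι hF) ξ'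
  exact Finite.of_equiv _ ((Groth.L27.EtSite.stalkPullIso W.ι ξ').app F).addCommGroupIsoToAddEquiv.toEquiv

theorem isFLC_of_local (F : EtCoh.Ab X)
    (h : ∀ x : X, ∃ U : X.Opens, x ∈ U ∧ EtCoh.IsFiniteLocallyConstant ((EtCoh.pull U.ι).obj F)) :
    EtCoh.IsFiniteLocallyConstant F := by
  refine ExtShriek.isFLC_of_cover fun x => ?_
  obtain ⟨U, hx, hU⟩ := h x
  exact ⟨U, U.ι, inferInstance, ⟨⟨x, hx⟩, rfl⟩, hU⟩

end Groth.L28.Spz
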