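import Groth.Agent.L28.Spz.Criteria
import Groth.Agent.L28.ExtShriek.Constr

/-!
Local constancy near a point through specialization maps.
-/

set_option autoImplicit false
set_option linter.style.haveILetI false

universe u

open CategoryTheory CategoryTheory.Limits AlgebraicGeometry Opposite Topology TopologicalSpace

set_option backward.isDefEq.respectTransparency.types false

namespace Groth.L28.Spz

/-- the points where a map of sheaves is bijective on stalks -/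
def bijLocus {T : Scheme.{u}} {A B : EtCoh.Ab T} (φ : A ⟶ B) : Set T :=
  {t | ∀ (Ω : Type u) [Field Ω] [IsSepClosed Ω] (ξ : Spec (CommRingCat.of Ω) ⟶ T), ξ.base default = t →
    Function.Bijective ((EtCoh.stalk ξ).map φ)}

theorem bijLocus_eq {T : Scheme.{u}} {A B : EtCoh.Ab T} (φ : A ⟶ B) :
    bijLocus φ = {t | ∀ (Ω : Type u) [Field Ω] [IsSepClosed Ω] (ξ : Spec (CommRingCat.of Ω) ⟶ T),
        ξ.base default = t → Subsingleton ((EtCoh.stalk ξ).obj (kernel φ))} ∩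
      {t | ∀ (Ω : Type u) [Field Ω] [IsSepClosed Ω] (ξ : Spec (CommRingCat.of Ω) ⟶ T),
        ξ.base default = t → Subsingleton ((EtCoh.stalk ξ).obj (cokernel φ))} := by
  ext t
  have key : ∀ {Ω : Type u} [Field Ω] [IsSepClosed Ω] (ξ : Spec (CommRingCat.of Ω) ⟶ T),
      Function.Bijective ((EtCoh.stalk ξ).map φ) ↔
        Subsingleton ((EtCoh.stalk ξ).obj (kernel φ)) ∧ Subsingleton ((EtCoh.stalk ξ).obj (cokernel φ)) := by
    intro Ω _ _ ξ
    haveI : PreservesColimitsOfSize.{0, 0} (EtCoh.stalk ξ) :=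
      ((Scheme.pointSmallEtale ξ).skyscraperSheafAdjunction).leftAdjoint_preservesColimits
    let ek := (PreservesKernel.iso (EtCoh.stalk ξ) φ).addCommGroupIsoToAddEquiv.toEquiv
    refine and_congr ?_ (ExtShriek.stalk_subsingleton_cokernel_iff φ ξ).symm
    rw [← AddCommGrpCat.mono_iff_injective]
    constructor
    · intro h
      haveI := AddCommGrpCat.subsingleton_of_isZero (isZero_kernel_of_mono ((EtCoh.stalk ξ).map φ))
      exact ek.subsingleton
    · intro h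
      haveI := ek.symm.subsingleton
      exact Preadditive.mono_of_isZero_kernel _ (AddCommGrpCat.isZero_of_subsingleton _)
  exact ⟨fun h => ⟨fun Ω _ _ ξ e => ((key ξ).1 (h Ω ξ e)).1, fun Ω _ _ ξ e => ((key ξ).1 (h Ω ξ e)).2⟩,
    fun h Ω _ _ ξ e => (key ξ).2 ⟨h.1 Ω ξ e, h.2 Ω ξ e⟩⟩

theorem isConstructible_of_isFLC {X : Scheme.{u}} {F : EtCoh.Ab X} (h : EtCoh.IsFiniteLocallyConstant F) :
    EtPBC.IsConstructible F := by
  rw [Strata.isConstructible_iff]
  intro U _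
  refine ⟨1, fun _ => U, fun _ => 𝟙 _, fun _ => inferInstance, fun _ => ?_, fun i j hij => absurd (Subsingleton.elim i j) hij,
    ?_, fun _ => ?_⟩
  · rw [show Set.range (𝟙 (U : Scheme.{u}) : (U : Scheme.{u}) ⟶ U) = Set.univ from Set.range_id]
    exact .univ
  · exact Set.eq_univ_of_forall fun x => Set.mem_iUnion.2 ⟨0, x, rfl⟩
  · show EtCoh.IsFiniteLocallyConstant _
    exact LocConst.isFiniteLocallyConstant_pull _ _ h

variable {X : Scheme.{u}}

theorem exists_sub_etale {W : Scheme.{u}} (h : W ⟶ X) [AlgebraicGeometry.Etale h] (O : W.Opens) :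
    ∃ (V₂ : X.Etale) (r : V₂.left ⟶ W), r ≫ h = V₂.hom ∧ IsOpenImmersion r ∧ Set.range r = O :=
  ⟨MorphismProperty.Over.mk ⊤ (O.ι ≫ h) (show EtCoh.etaleMP (O.ι ≫ h) from inferInstanceAs (AlgebraicGeometry.Etale (O.ι ≫ h))),
    O.ι, rfl, inferInstanceAs (IsOpenImmersion O.ι), O.range_ι⟩

/-- restricting sections to an open where all germs are bijective -/
theorem exists_restr_trivial {F : EtCoh.Ab X} (V : X.Etale) {M : Type} [AddCommGroup M] (s : M →+ F.obj.obj (op V))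
    (O : V.left.Opens) {Ω : Type u} [Field Ω] [IsSepClosed Ω] {ξ : Spec (CommRingCat.of Ω) ⟶ X}
    (η₀ : Spec (CommRingCat.of Ω) ⟶ V.left) (hη₀ : η₀ ≫ V.hom = ξ) (hx : η₀ default ∈ O)
    (hb : ∀ v ∈ O, ∃ (Ω₁ : Type u) (_ : Field Ω₁) (_ : IsSepClosed Ω₁) (ζ : Spec (CommRingCat.of Ω₁) ⟶ V.left),
      ζ default = v ∧ Function.Bijective (germ F V s ζ)) :
    ∃ (V₂ : X.Etale) (M : Type) (_ : AddCommGroup M) (s : M →+ F.obj.obj (op V₂)) (_ : (Scheme.pointSmallEtale ξ).fiber.obj V₂),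
      ∀ (Ω' : Type u) [Field Ω'] [IsSepClosed Ω'] (ξ' : Spec (CommRingCat.of Ω') ⟶ X)
        (y' : (Scheme.pointSmallEtale ξ').fiber.obj V₂), Function.Bijective (germY F V₂ s y') := by
  let h : V.left ⟶ X := V.hom
  haveI : AlgebraicGeometry.Etale h := V.prop
  obtain ⟨V₂, r, hr, hoi, hrange⟩ := exists_sub_etale h O
  let ρ : V₂ ⟶ V := MorphismProperty.Over.homMk r hr
  have hr' : Set.range η₀ ⊆ Set.range r := by
    rintro _ ⟨t, rfl⟩
    rw [hrange, Subsingleton.elim (α := Spec (CommRingCat.of Ω)) t default]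
    exact hx
  haveI := hoi
  let l := @IsOpenImmersion.lift _ _ _ r η₀ hoi hr'
  have hl : l ≫ r = η₀ := IsOpenImmersion.lift_fac _ _ _
  refine ⟨V₂, M, inferInstance, (F.obj.map ρ.op).hom.comp s,
    Over.homMk l ((congrArg (l ≫ ·) hr.symm).trans
      ((Category.assoc _ _ _).symm.trans ((congrArg (· ≫ h) hl).trans hη₀))),
    fun Ω' _ _ ξ' y' => ?_⟩
  let y'' := (Scheme.pointSmallEtale ξ').fiber.map ρ y'
  have e : germY F V₂ ((F.obj.map ρ.op).hom.comp s) y' = germY F V s y'' := funext fun m =>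
    GrothendieckTopology.Point.toPresheafFiber_w_apply (Scheme.pointSmallEtale ξ') ρ y' F.obj (s m)
  rw [e]
  let q : Spec (CommRingCat.of Ω') ⟶ V₂.left := y'.left
  obtain ⟨η', hη'⟩ : ∃ η' : Spec (CommRingCat.of Ω') ⟶ V.left, y''.left = η' := ⟨_, rfl⟩
  have hO : η' default ∈ O := by
    rw [← hη']
    show (q ≫ r) default ∈ (O : Set V.left)
    rw [← hrange, Scheme.Hom.comp_apply]
    exact ⟨_, rfl⟩
  obtain ⟨Ω₁, _, _, ζ, hζ, hbz⟩ := hb _ hO
  have hb' := bijective_germ_of_iso η' hζ hbz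
  have w : η' ≫ V.hom = ξ' := hη' ▸ Over.w y''
  clear_value y''
  subst w
  rw [show y'' = selfPt V η' from Over.OverMorphism.ext hη']
  exact hb'

/-- a finite locally constant sheaf is trivialised by sections near every point -/
theorem exists_nbhd_trivial (F : EtCoh.Ab X) (U : X.Opens)
    (hF : EtCoh.IsFiniteLocallyConstant ((EtCoh.pull U.ι).obj F)) {Ω : Type u} [Field Ω] [IsSepClosed Ω]
    (ξ : Spec (CommRingCat.of Ω) ⟶ X) (hx : ξ default ∈ U) (hfin : Finite ((EtCoh.stalk ξ).obj F)) :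
    ∃ (V : X.Etale) (M : Type) (_ : AddCommGroup M) (s : M →+ F.obj.obj (op V)) (_ : (Scheme.pointSmallEtale ξ).fiber.obj V),
      ∀ (Ω' : Type u) [Field Ω'] [IsSepClosed Ω'] (ξ' : Spec (CommRingCat.of Ω') ⟶ X)
        (y' : (Scheme.pointSmallEtale ξ').fiber.obj V), Function.Bijective (germY F V s y') := by
  obtain ⟨V, hV, y, M, _, _, s, hs⟩ := exists_lift_stalk ξ F hfin
  let h : V.left ⟶ X := V.hom
  haveI : AlgebraicGeometry.Etale h := V.prop
  let η₀ : Spec (CommRingCat.of Ω) ⟶ V.left := y.left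
  let V₁ : V.left.Opens := h ⁻¹ᵁ U
  have hv : η₀ default ∈ V₁ := by
    show h (η₀ default) ∈ U
    rw [← Scheme.Hom.comp_apply, show η₀ ≫ h = ξ from Over.w y]
    exact hx
  obtain ⟨α, hα⟩ := exists_alpha F V s
  have hB : EtCoh.IsFiniteLocallyConstant ((EtCoh.pull V₁.ι).obj ((EtCoh.pull h).obj F)) := by
    have e : (h ∣_ U) ≫ U.ι = V₁.ι ≫ h := morphismRestrict_ι h U
    exact Strata.isFLC_of_iso (((EtCore.pullComp (h ∣_ U) U.ι).app F).symm ≪≫
      eqToIso (congrArg (fun m => (EtCoh.pull m).obj F) e) ≪≫ (EtCore.pullComp V₁.ι h).app F)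
      (LocConst.isFiniteLocallyConstant_pull _ _ hF)
  have hA : EtCoh.IsFiniteLocallyConstant ((EtCoh.pull V₁.ι).obj (EtCoh.const V.left M)) :=
    LocConst.isFiniteLocallyConstant_pull _ _ (ExtShriek.isFLC_const V.left M)
  have hcl : IsClopen (bijLocus ((EtCoh.pull V₁.ι).map α)) := by
    rw [bijLocus_eq]
    have hk := LocConstAb.isFiniteLocallyConstant_kernel_cokernel ((EtCoh.pull V₁.ι).map α) hA hB
    exact (Locus.isClopen_zero_stalks hk.1).inter (Locus.isClopen_zero_stalks hk.2)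
  have hconv : ∀ {Ω₁ : Type u} [Field Ω₁] [IsSepClosed Ω₁] (ζ : Spec (CommRingCat.of Ω₁) ⟶ (V₁ : Scheme.{u})),
      Function.Bijective ((EtCoh.stalk ζ).map ((EtCoh.pull V₁.ι).map α)) ↔ Function.Bijective (germ F V s (ζ ≫ V₁.ι)) := by
    intro Ω₁ _ _ ζ
    refine Iff.trans ?_ (hα Ω₁ (ζ ≫ V₁.ι)).symm
    rw [← ConcreteCategory.isIso_iff_bijective, ← ConcreteCategory.isIso_iff_bijective]
    exact (MorphismProperty.isomorphisms _).arrow_mk_iso_iff
      (((Functor.mapArrowFunctor _ _).mapIso (Groth.L27.EtSite.stalkPullIso V₁.ι ζ)).app (Arrow.mk α))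
  have hgood : (⟨η₀ default, hv⟩ : V₁) ∈ bijLocus ((EtCoh.pull V₁.ι).map α) := fun Ω₁ _ _ ζ hζ =>
    (hconv ζ).2 (bijective_germ_of_iso _ (by rw [Scheme.Hom.comp_apply, hζ]; rfl) (bijective_germ_of_germY y η₀ rfl hs))
  refine exists_restr_trivial V s ⟨V₁.ι '' bijLocus ((EtCoh.pull V₁.ι).map α), V₁.ι.isOpenMap _ hcl.2⟩ η₀ (Over.w y)
    ⟨⟨η₀ default, hv⟩, hgood, rfl⟩ fun v ⟨v₁, hv₁, e⟩ => ?_
  obtain ⟨Ω₁, _, _, ζ, hζ⟩ := Groth.L27.EtSite.exists_geometric_point (X := (V₁ : Scheme.{u})) v₁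
  exact ⟨Ω₁, inferInstance, inferInstance, ζ ≫ V₁.ι, by rw [Scheme.Hom.comp_apply, hζ, e],
    (hconv ζ).1 (hv₁ Ω₁ ζ hζ)⟩

theorem isIso_sheafFiber_of_isFLC (F : EtCoh.Ab X) (U : X.Opens)
    (hF : EtCoh.IsFiniteLocallyConstant ((EtCoh.pull U.ι).obj F)) {Ω Ω' : Type u} [Field Ω] [IsSepClosed Ω]
    [Field Ω'] [IsSepClosed Ω'] (ξ : Spec (CommRingCat.of Ω) ⟶ X) (hx : ξ default ∈ U)
    (hfin : Finite ((EtCoh.stalk ξ).obj F)) (ξ' : Spec (CommRingCat.of Ω') ⟶ X)
    (φ : Scheme.pointSmallEtale ξ' ⟶ Scheme.pointSmallEtale ξ) :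
    IsIso ((GrothendieckTopology.Point.Hom.sheafFiber (A := AddCommGrpCat.{u + 1}) φ).app F) := by
  obtain ⟨V, M, _, s, y, hb⟩ := exists_nbhd_trivial F U hF ξ hx hfin
  refine (ConcreteCategory.isIso_iff_bijective _).2
    ((Function.Bijective.of_comp_iff _ (hb Ω ξ y)).1 ?_)
  rw [show ⇑((GrothendieckTopology.Point.Hom.sheafFiber (A := AddCommGrpCat.{u + 1}) φ).app F) ∘ germY F V s y =
    germY F V s (φ.hom.app V y) from funext fun m => sheafFiber_germ φ F V y (s m)]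
  exact hb Ω' ξ' _

theorem exists_open_isFLC (F : EtCoh.Ab X) (hF : EtPBC.IsConstructible F) {Ω : Type u} [Field Ω] [IsSepClosed Ω]
    (ξ : Spec (CommRingCat.of Ω) ⟶ X) (hfin : Finite ((EtCoh.stalk ξ).obj F))
    (h : ∀ (Ω' : Type u) [Field Ω'] [IsSepClosed Ω'] (ξ' : Spec (CommRingCat.of Ω') ⟶ X)
      (φ : Scheme.pointSmallEtale ξ' ⟶ Scheme.pointSmallEtale ξ),
      IsIso ((GrothendieckTopology.Point.Hom.sheafFiber (A := AddCommGrpCat.{u + 1}) φ).app F)) :
    ∃ U : X.Opens, ξ default ∈ U ∧ EtCoh.IsFiniteLocallyConstant ((EtCoh.pull U.ι).obj F) := by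
  obtain ⟨V, hV, y, M, _, _, s, hs⟩ := exists_lift_stalk ξ F hfin
  let hm : V.left ⟶ X := V.hom
  haveI : AlgebraicGeometry.Etale hm := V.prop
  obtain ⟨η₀, hη₀⟩ : ∃ η : Spec (CommRingCat.of Ω) ⟶ V.left, y.left = η := ⟨_, rfl⟩
  have w : η₀ ≫ V.hom = ξ := hη₀ ▸ Over.w y
  subst w
  have hs' : Function.Bijective (germ F V s η₀) := bijective_germ_of_germY y η₀ hη₀ hs
  obtain ⟨α, hα⟩ := exists_alpha F V s
  have hC : IsConstructible (bijLocus α) := by
    rw [bijLocus_eq]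
    have hk := Strata.isConstructible_kernel_cokernel α
      (isConstructible_of_isFLC (ExtShriek.isFLC_const V.left M)) (ExtShriek.isConstructible_pull hm hF)
    exact (Locus.isConstructible_zero_stalks hk.1).inter (Locus.isConstructible_zero_stalks hk.2)
  obtain ⟨O, hO, hOC⟩ := exists_open_subset hC (q := η₀ default) fun a ha Ω₁ _ _ ζ hζ => by
    refine (hα Ω₁ ζ).1 ?_
    obtain ⟨φ⟩ := exists_hom_of_specializes η₀ ζ (by rw [show ζ default = a from hζ]; exact ha)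
    haveI := h Ω₁ (ζ ≫ V.hom) (pushHom (Y := V.left) (X := X) V.hom φ)
    have hb := (ConcreteCategory.bijective_of_isIso ((GrothendieckTopology.Point.Hom.sheafFiber
      (A := AddCommGrpCat.{u + 1}) (pushHom (Y := V.left) (X := X) V.hom φ)).app F)).comp hs'
    rw [show ⇑((GrothendieckTopology.Point.Hom.sheafFiber (A := AddCommGrpCat.{u + 1})
      (pushHom (Y := V.left) (X := X) V.hom φ)).app F) ∘ germ F V s η₀ = germ F V s ζ from
        funext (germ_map F V s φ)] at hb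
    exact hb
  haveI : IsIso (pullback.snd (𝟙 X) hm) := inferInstance
  let O' : (pullback (𝟙 X) V.hom).Opens := pullback.snd (𝟙 X) hm ⁻¹ᵁ O
  let U : X.Opens := ⟨pullback.fst (𝟙 X) hm '' O', (pullback.fst (𝟙 X) hm).isOpenMap _ O'.2⟩
  refine ⟨U, ?_, ?_⟩
  · obtain ⟨o, ho⟩ := (pullback.snd (𝟙 X) hm).surjective (η₀ default)
    refine ⟨o, show pullback.snd (𝟙 X) hm o ∈ O from ho.symm ▸ hO, ?_⟩
    have e := congrArg (fun m => m o) (pullback.condition (f := 𝟙 X) (g := hm))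
    simp only [Category.comp_id, Scheme.Hom.comp_apply] at e
    rw [e, ho]
    exact (Scheme.Hom.comp_apply _ _ _).symm
  · rw [← Category.comp_id U.ι]
    refine isFLC_of_germs (𝟙 X) F V s U O' (fun t ⟨o, ho, e⟩ => ⟨o, ho, e⟩) fun o ho => ?_
    obtain ⟨Ω₁, _, _, ζ, hζ⟩ := Groth.L27.EtSite.exists_geometric_point (X := V.left) (pullback.snd (𝟙 X) hm o)
    exact ⟨Ω₁, inferInstance, inferInstance, ζ, hζ, (hα Ω₁ ζ).2 (hOC ho Ω₁ ζ hζ)⟩

end Groth.L28.Spz
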