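import Groth.Agent.L28.Spz.Trivial
import Groth.Agent.L28.ExtShriek.Closures
import Groth.Agent.L28.Noeth.Strat
import Groth.Agent.L05.Henselization.FlatQFComponents

/-!
Constructibility and local constancy through specialization maps.
-/

set_option autoImplicit false
set_option linter.style.haveILetI false

universe u

open CategoryTheory CategoryTheory.Limits AlgebraicGeometry Opposite Topology TopologicalSpace

set_option backward.isDefEq.respectTransparency.types false

namespace Groth.L28.Spz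

variable {X : Scheme.{u}}

theorem exists_generic_setup [IsLocallyNoetherian X] (F : EtCoh.Ab X)
    (hfin : ∀ (Ω : Type u) [Field Ω] [IsSepClosed Ω] (ξ : Spec (CommRingCat.of Ω) ⟶ X),
      Finite ((EtCoh.stalk ξ).obj F))
    {T : Scheme.{u}} (k : T ⟶ X) [AlgebraicGeometry.IsNoetherian T] [IrreducibleSpace T] :
    ∃ (V : X.Etale) (M : Type) (_ : AddCommGroup M) (_ : Finite M) (s : M →+ F.obj.obj (op V))
      (O : (pullback k V.hom).Opens) (U : T.Opens) (p : V.left),
      genericPoint T ∈ U ∧ (∀ t ∈ U, ∃ o ∈ O, pullback.fst k V.hom o = t) ∧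
        (∀ o ∈ O, p ⤳ pullback.snd k V.hom o) ∧ V.hom.base p = k (genericPoint T) ∧
        ∀ (Ω : Type u) [Field Ω] [IsSepClosed Ω] (η : Spec (CommRingCat.of Ω) ⟶ V.left), η default = p →
          Function.Bijective (germ F V s η) := by
  obtain ⟨Ω, _, _, ξ₀, hξ₀⟩ := Groth.L27.EtSite.exists_geometric_point (genericPoint T)
  obtain ⟨V, hV, y, M, _, _, s, hs⟩ := exists_lift_stalk (ξ₀ ≫ k) F (hfin Ω (ξ₀ ≫ k))
  let h : V.left ⟶ X := V.hom
  haveI : AlgebraicGeometry.Etale h := V.prop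
  haveI : QuasiCompact h :=
    haveI : CompactSpace V.left := inferInstance
    quasiCompact_of_compactSpace h
  let η₀ : Spec (CommRingCat.of Ω) ⟶ V.left := y.left
  have hw : ξ₀ ≫ k = η₀ ≫ h := (Over.w y).symm
  let P := pullback k h
  let fst : P ⟶ T := pullback.fst k h
  let snd : P ⟶ V.left := pullback.snd k h
  let ζ : Spec (CommRingCat.of Ω) ⟶ P := pullback.lift ξ₀ η₀ hw
  let q : P := ζ default
  have hq1 : fst q = genericPoint T := by
    show fst (ζ default) = _
    rw [← Scheme.Hom.comp_apply, pullback.lift_fst]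
    exact hξ₀
  have hq2 : snd q = η₀ default := by
    show snd (ζ default) = _
    rw [← Scheme.Hom.comp_apply, pullback.lift_snd]
  haveI : AlgebraicGeometry.Etale fst := inferInstance
  haveI : LocallyQuasiFinite fst := inferInstance
  haveI : QuasiCompact fst := inferInstance
  haveI : CompactSpace P := QuasiCompact.compactSpace_of_compactSpace fst
  haveI : IsLocallyNoetherian P := LocallyOfFiniteType.isLocallyNoetherian fst
  haveI : AlgebraicGeometry.IsNoetherian P := {}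
  have hgen : ∀ q', q' ⤳ q → q' = q := fun q' hq => by
    refine Groth.L05.Henselization.FlatQF.eq_of_specializes fst hq ?_
    show fst q' = fst q
    rw [hq1]
    exact (((hq.map fst.continuous).trans (specializes_of_eq hq1)).antisymm
      ((genericPoint_spec T).specializes (Set.mem_univ _))).eq
  have hCirr : IsIrreducible (irreducibleComponent q) := isIrreducible_irreducibleComponent
  obtain ⟨O₁, hO₁, ⟨o₁, ho₁⟩, hOC⟩ := NoetherianSpace.exists_isOpen_nonempty_subset_irreducibleComponent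
    (irreducibleComponent q) (irreducibleComponent_mem_irreducibleComponents _)
  have hC : ∀ o ∈ irreducibleComponent q, q ⤳ o := fun o ho => by
    have hg := hCirr.isGenericPoint_genericPoint isClosed_irreducibleComponent
    have := hgen _ (hg.specializes mem_irreducibleComponent)
    rw [← this]
    exact hg.specializes ho
  refine ⟨V, M, inferInstance, inferInstance, s, ⟨O₁, hO₁⟩, ⟨fst '' O₁, fst.isOpenMap _ hO₁⟩, snd q,
    ⟨q, (hC o₁ (hOC ho₁)).mem_open hO₁ ho₁, hq1⟩, fun t ⟨o, ho, e⟩ => ⟨o, ho, e⟩,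
    fun o ho => (hC o (hOC ho)).map snd.continuous, ?_, fun Ω' _ _ η hη => ?_⟩
  · show h (snd q) = _
    rw [← Scheme.Hom.comp_apply, ← pullback.condition, Scheme.Hom.comp_apply]
    exact congrArg k hq1
  exact bijective_germ_of_iso η (hq2.symm.trans hη.symm) (bijective_germ_of_germY y η₀ rfl hs)

theorem isConstructible_of_generic [IsLocallyNoetherian X] (F : EtCoh.Ab X)
    (hgen : ∀ (T : Scheme.{u}) (k : T ⟶ X) [AlgebraicGeometry.IsNoetherian T] [IrreducibleSpace T],
      ∃ U : T.Opens, genericPoint T ∈ U ∧ EtCoh.IsFiniteLocallyConstant ((EtCoh.pull (U.ι ≫ k)).obj F)) :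
    EtPBC.IsConstructible F := by
  refine (Strata.isConstructible_iff F).2 fun W hW => ?_
  haveI : IsAffine W.toScheme := hW
  haveI : AlgebraicGeometry.IsNoetherian W.toScheme := {}
  refine Noeth.strat_of_generic ((Strata.stable_lcPred F).res W.ι) fun T g _ _ _ => ?_
  obtain ⟨U, hU, hlc⟩ := hgen T (g ≫ W.ι)
  refine ⟨U, hU, ?_⟩
  show EtCoh.IsFiniteLocallyConstant ((EtCoh.pull ((U.ι ≫ g) ≫ W.ι)).obj F)
  rw [Category.assoc]
  exact hlc

/-- injective specialization maps and finite stalks give constructibility -/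
theorem isConstructible_of_mono [IsLocallyNoetherian X] (F : EtCoh.Ab X)
    (hfin : ∀ (Ω : Type u) [Field Ω] [IsSepClosed Ω] (ξ : Spec (CommRingCat.of Ω) ⟶ X),
      Finite ((EtCoh.stalk ξ).obj F))
    (hmono : ∀ (Ω Ω' : Type u) [Field Ω] [IsSepClosed Ω] [Field Ω'] [IsSepClosed Ω']
        (ξ : Spec (CommRingCat.of Ω) ⟶ X) (ξ' : Spec (CommRingCat.of Ω') ⟶ X)
        (φ : Scheme.pointSmallEtale ξ' ⟶ Scheme.pointSmallEtale ξ),
        Mono ((GrothendieckTopology.Point.Hom.sheafFiber (A := AddCommGrpCat.{u + 1}) φ).app F)) :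
    EtPBC.IsConstructible F := by
  refine isConstructible_of_generic F fun T k _ _ => ?_
  obtain ⟨V, M, _, _, s, O, U, p, hU, hOU, hspec, hp, hb⟩ := exists_generic_setup F hfin k
  refine ⟨U, hU, isFLC_of_germs k F V s U O hOU fun o ho => ?_⟩
  obtain ⟨Ω, _, _, η, hη⟩ := Groth.L27.EtSite.exists_geometric_point (X := V.left) (pullback.snd k V.hom o)
  obtain ⟨Ω', _, _, η', hη'⟩ := Groth.L27.EtSite.exists_geometric_point (X := V.left) p
  obtain ⟨φ⟩ := exists_hom_of_specializes η η' (by rw [hη, hη']; exact hspec o ho)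
  have hbp := hb Ω' η' hη'
  let S := (GrothendieckTopology.Point.Hom.sheafFiber (A := AddCommGrpCat.{u + 1})
    (pushHom (Y := V.left) (X := X) V.hom φ)).app F
  have hinj : Function.Injective S := (AddCommGrpCat.mono_iff_injective _).1 (hmono _ _ _ _ _)
  have hmap : ∀ m, S (germ F V s η m) = germ F V s η' m := germ_map F V s φ
  refine ⟨Ω, inferInstance, inferInstance, η, hη, fun a b e => hbp.1 ?_, fun z => ?_⟩
  · rw [← hmap, ← hmap, e]
  · obtain ⟨m, hm⟩ := hbp.2 (S z)
    exact ⟨m, hinj ((hmap m).trans hm)⟩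

/-- a constructible set containing all generalizations of a point is a neighbourhood of it -/
theorem exists_open_subset {T : Scheme.{u}} [CompactSpace T] [QuasiSeparatedSpace T] {C : Set T}
    (hC : IsConstructible C) {q : T} (hq : ∀ a, a ⤳ q → a ∈ C) : ∃ U : T.Opens, q ∈ U ∧ (U : Set T) ⊆ C := by
  classical
  have hcl : IsCompact ((WithTopology.ofTopology : WithConstructibleTopology T → T) ⁻¹' Cᶜ) :=
    isClosed_compl_iff.2 (ExtShriek.isOpen_constructible hC) |>.isCompact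
  have hex : ∀ b : T, b ∉ C → ∃ W : T.Opens, IsCompact (W : Set T) ∧ q ∈ W ∧ b ∉ W := by
    intro b hb
    obtain ⟨O, hqO, hbO⟩ : ∃ O : Set T, IsOpen O ∧ q ∈ O ∧ b ∉ O := by
      by_contra hcon
      exact hb (hq b (specializes_iff_forall_open.2 fun O hO hqO => by_contra fun hbO => hcon ⟨O, hO, hqO, hbO⟩))
    obtain ⟨_, ⟨W, hW, rfl⟩, hqW, hWO⟩ := T.isBasis_affineOpens.exists_subset_of_mem_open hbO.1 hqO
    exact ⟨W, IsAffineOpen.isCompact hW, hqW, fun h => hbO.2 (hWO h)⟩
  choose W hWc hqW hbW using hex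
  obtain ⟨t, ht⟩ := hcl.elim_finite_subcover
    (fun b : {b // b ∉ C} => (WithTopology.ofTopology : WithConstructibleTopology T → T) ⁻¹' (W b.1 b.2 : Set T)ᶜ)
    (fun b => ExtShriek.isOpen_constructible ((hWc b.1 b.2).isConstructible (W b.1 b.2).2).compl)
    (fun z hz => Set.mem_iUnion.2 ⟨⟨WithTopology.ofTopology z, hz⟩, hbW _ hz⟩)
  refine ⟨t.inf fun b => W b.1 b.2, ?_, fun z hz => by_contra fun hzC => ?_⟩
  · show q ∈ ((t.inf fun b => W b.1 b.2 : T.Opens) : Set T)
    rw [TopologicalSpace.Opens.coe_finset_inf, Finset.inf_set_eq_iInter]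
    exact Set.mem_iInter₂.2 fun b _ => hqW b.1 b.2
  · obtain ⟨b, hb⟩ := Set.mem_iUnion.1 (ht (show WithTopology.toTopology _ z ∈ _ from hzC))
    obtain ⟨hbt, hzb⟩ := Set.mem_iUnion.1 hb
    exact hzb ((Finset.inf_le hbt : (t.inf fun b => W b.1 b.2) ≤ W b.1 b.2) hz)

theorem card_eq {Ω Ω' : Type u} [Field Ω] [IsSepClosed Ω] [Field Ω'] [IsSepClosed Ω'] (F : EtCoh.Ab X)
    (ξ : Spec (CommRingCat.of Ω) ⟶ X) (ξ' : Spec (CommRingCat.of Ω') ⟶ X) (e : ξ default = ξ' default) :
    Nat.card ((EtCoh.stalk ξ').obj F) = Nat.card ((EtCoh.stalk ξ).obj F) := by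
  obtain ⟨i⟩ := nonempty_iso ξ' ξ e.symm
  exact (Nat.card_eq_of_bijective _ (bijective_sheafFiber i.hom F)).symm

/-- finite stalks with constructible cardinality loci give constructibility -/
theorem isConstructible_of_card [IsLocallyNoetherian X] (F : EtCoh.Ab X)
    (hfin : ∀ (Ω : Type u) [Field Ω] [IsSepClosed Ω] (ξ : Spec (CommRingCat.of Ω) ⟶ X),
      Finite ((EtCoh.stalk ξ).obj F))
    (h : ∀ n : ℕ, Topology.IsLocallyConstructible
      {x : X | ∃ (Ω : Type u) (_ : Field Ω) (_ : IsSepClosed Ω) (ξ : Spec (CommRingCat.of Ω) ⟶ X),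
        Set.range ξ = {x} ∧ Nat.card ((EtCoh.stalk ξ).obj F) = n}) :
    EtPBC.IsConstructible F := by
  refine isConstructible_of_generic F fun T k _ _ => ?_
  obtain ⟨V, M, _, _, s, O, U, p, hU, hOU, hspec, hp, hb⟩ := exists_generic_setup F hfin k
  let C : Set X := {x : X | ∃ (Ω : Type u) (_ : Field Ω) (_ : IsSepClosed Ω) (ξ : Spec (CommRingCat.of Ω) ⟶ X),
        Set.range ξ = {x} ∧ Nat.card ((EtCoh.stalk ξ).obj F) = Nat.card M}
  obtain ⟨W, hW, hxW, -⟩ := Strata.exists_affine (X := X) (x := k (genericPoint T)) (Set.mem_univ _) isOpen_univ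
  haveI : IsAffine W.toScheme := hW
  haveI : AlgebraicGeometry.IsNoetherian (k ⁻¹ᵁ W : Scheme.{u}) :=
    { toCompactSpace := isCompact_iff_compactSpace.1 (NoetherianSpace.isCompact _) }
  have hC : IsConstructible ((k ⁻¹ᵁ W).ι ⁻¹' (k ⁻¹' C)) := by
    have h1 := ((h (Nat.card M)).preimage_of_isOpenEmbedding W.ι.isOpenEmbedding).isConstructible
    have h2 := (k ∣_ W).isConstructible_preimage h1
    rwa [← Set.preimage_comp, ← TopCat.coe_comp, ← Scheme.Hom.comp_base, morphismRestrict_ι, Scheme.Hom.comp_base,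
      TopCat.coe_comp, Set.preimage_comp] at h2
  obtain ⟨U₂, hU₂, hU₂C⟩ := exists_open_subset hC (q := ⟨genericPoint T, hxW⟩) fun a ha => by
    obtain ⟨Ω, _, _, η, hη⟩ := Groth.L27.EtSite.exists_geometric_point (X := V.left) p
    have e : (k ⁻¹ᵁ W).ι a = genericPoint T := ((ha.map (k ⁻¹ᵁ W).ι.continuous).antisymm
      ((genericPoint_spec T).specializes (Set.mem_univ _))).eq
    refine ⟨Ω, inferInstance, inferInstance, η ≫ V.hom, ?_, (Nat.card_eq_of_bijective _ (hb Ω η hη)).symm⟩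
    have hx : (η ≫ V.hom) default = k ((k ⁻¹ᵁ W).ι a) := by
      rw [e, ← hp, ← hη]
      exact Scheme.Hom.comp_apply _ _ _
    refine Set.eq_singleton_iff_unique_mem.2 ⟨⟨default, hx⟩, ?_⟩
    rintro _ ⟨z, rfl⟩
    exact (congrArg _ (Subsingleton.elim (α := Spec (CommRingCat.of Ω)) z default)).trans hx
  let U₁ : T.Opens := (k ⁻¹ᵁ W).ι ''ᵁ U₂
  have hU₁ : genericPoint T ∈ U₁ := ⟨⟨genericPoint T, hxW⟩, hU₂, rfl⟩
  have hU₁C : (U₁ : Set T) ⊆ k ⁻¹' C := by
    rintro _ ⟨w, hw, rfl⟩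
    exact hU₂C hw
  refine ⟨U ⊓ U₁, ⟨hU, hU₁⟩, isFLC_of_germs k F V s _ (O ⊓ pullback.fst k V.hom ⁻¹ᵁ U₁)
    (fun t ht => ?_) fun o ho => ?_⟩
  · obtain ⟨o, ho, hot⟩ := hOU t ht.1
    exact ⟨o, ⟨ho, show pullback.fst k V.hom o ∈ U₁ from hot.symm ▸ ht.2⟩, hot⟩
  obtain ⟨Ω, _, _, η, hη⟩ := Groth.L27.EtSite.exists_geometric_point (X := V.left) (pullback.snd k V.hom o)
  obtain ⟨Ω', _, _, η', hη'⟩ := Groth.L27.EtSite.exists_geometric_point (X := V.left) p
  obtain ⟨φ⟩ := exists_hom_of_specializes η η' (by rw [hη, hη']; exact hspec o ho.1)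
  have hbp := hb Ω' η' hη'
  have hinj : Function.Injective (germ F V s η) := fun a b e => hbp.1 (by
    rw [← germ_map F V s φ, ← germ_map F V s φ, e])
  obtain ⟨Ω₁, _, _, ξ, hξ, hcard⟩ : k (pullback.fst k V.hom o) ∈ C := hU₁C ho.2
  haveI := hfin Ω (η ≫ V.hom)
  refine ⟨Ω, inferInstance, inferInstance, η, hη, hinj.bijective_of_nat_card_le ?_⟩
  rw [card_eq F ξ (η ≫ V.hom) ?_, hcard]
  refine (hξ.subset ⟨default, rfl⟩ : ξ default = _).trans ?_
  rw [Scheme.Hom.comp_apply, ← Scheme.Hom.comp_apply, pullback.condition, Scheme.Hom.comp_apply]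
  exact congrArg (fun v => V.hom.base v) hη.symm

end Groth.L28.Spz
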