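import Groth.Agent.L28.Spz.Points
import Groth.Agent.L27.EtSite.BaseChangeAux
import Groth.Agent.L28.Pts.Basic
import Groth.Prelude.Def_EtCore

/-!
Sections on an étale neighbourhood trivialise a sheaf where their germs are bijective.
-/

set_option autoImplicit false
set_option linter.style.haveILetI false

universe u

open CategoryTheory CategoryTheory.Limits AlgebraicGeometry Opposite

set_option backward.isDefEq.respectTransparency.types false

namespace Groth.L28.Spz

variable {X : Scheme.{u}} {M : Type} [AddCommGroup M]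

theorem bijective_constGerm {T : Scheme.{u}} {Ω : Type u} [Field Ω] [IsSepClosed Ω] (η : Spec (CommRingCat.of Ω) ⟶ T)
    (t : (Scheme.pointSmallEtale η).fiber.obj (EtCoh.top T)) :
    Function.Bijective fun m : ULift.{u + 1} M => (Scheme.pointSmallEtale η).toPresheafFiber (EtCoh.top T) t
      (EtCoh.const T M).obj ((EtCore.constAdj T).unit.app (AddCommGrpCat.of (ULift.{u + 1} M)) m) := by
  let hW := GrothendieckTopology.Point.W_isInvertedBy_presheafFiber' (A := AddCommGrpCat.{u + 1}) (Scheme.pointSmallEtale η)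
  have h := Pts.constSect_sheafFiberConstIso_hom (J := T.smallEtaleTopology) (Scheme.pointSmallEtale η) hW
    (AddCommGrpCat.of (ULift.{u + 1} M)) (EtCoh.top T) t
  let e := (Pts.sheafFiberConstIso (Scheme.pointSmallEtale η) hW (AddCommGrpCat.of (ULift.{u + 1} M))).addCommGroupIsoToAddEquiv
  refine (Function.Bijective.of_comp_iff' e.bijective _).1 ?_
  refine Function.bijective_iff_has_inverse.2 ⟨id, fun m => ?_, fun m => ?_⟩ <;>
  · exact ConcreteCategory.congr_hom h m

variable (F : EtCoh.Ab X) (V : X.Etale) (s : M →+ F.obj.obj (op V))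

/-- the germ of the sections at a geometric point of `V` -/
noncomputable def germ {Ω : Type u} [Field Ω] [IsSepClosed Ω] (η : Spec (CommRingCat.of Ω) ⟶ V.left) :
    M → (EtCoh.stalk (η ≫ V.hom)).obj F :=
  fun m => (Scheme.pointSmallEtale (η ≫ V.hom)).toPresheafFiber V (selfPt V η) F.obj (s m)

theorem germ_map {Ω Ω' : Type u} [Field Ω] [IsSepClosed Ω] [Field Ω'] [IsSepClosed Ω']
    {η : Spec (CommRingCat.of Ω) ⟶ V.left} {η' : Spec (CommRingCat.of Ω') ⟶ V.left}
    (φ : Scheme.pointSmallEtale η' ⟶ Scheme.pointSmallEtale η) (m : M) :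
    (GrothendieckTopology.Point.Hom.sheafFiber (A := AddCommGrpCat.{u + 1}) (pushHom (Y := V.left) (X := X) V.hom φ)).app F
        (germ F V s η m) = germ F V s η' m :=
  (sheafFiber_germ (pushHom (Y := V.left) (X := X) V.hom φ) F V (selfPt V η) (s m)).trans
    (congrArg (fun y => (Scheme.pointSmallEtale (η' ≫ V.hom)).toPresheafFiber V y F.obj (s m)) (pushHom_selfPt V φ))

theorem exists_alpha : ∃ α : EtCoh.const V.left M ⟶ (EtCoh.pull (X := V.left) (Y := X) V.hom).obj F,
    ∀ (Ω : Type u) [Field Ω] [IsSepClosed Ω] (η : Spec (CommRingCat.of Ω) ⟶ V.left),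
      Function.Bijective (germ F V s η) ↔ Function.Bijective ((EtCoh.stalk η).map α) := by
  let g : V.left ⟶ X := V.hom
  let δ : EtCoh.top V.left ⟶ (EtCoh.bc g).obj V := MorphismProperty.Over.homMk
    (pullback.lift (𝟙 V.left) (𝟙 V.left) rfl : V.left ⟶ pullback g g) (pullback.lift_snd _ _ _)
  let G := (EtCoh.pull g).obj F
  let t : AddCommGrpCat.of (ULift.{u + 1} M) ⟶ G.obj.obj (op (EtCoh.top V.left)) :=
    AddCommGrpCat.ofHom (s.comp (AddEquiv.ulift : ULift.{u + 1} M ≃+ M).toAddMonoidHom) ≫
      ((EtCoh.pullPushAdj g).unit.app F).hom.app (op V) ≫ G.obj.map δ.op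
  let α := ((EtCore.constAdj V.left).homEquiv (AddCommGrpCat.of (ULift.{u + 1} M)) G).symm t
  refine ⟨α, fun Ω _ _ η => ?_⟩
  let tp : (Scheme.pointSmallEtale η).fiber.obj (EtCoh.top V.left) := Over.homMk η (Category.comp_id _)
  have hα : ∀ m : ULift.{u + 1} M,
      α.hom.app (op (EtCoh.top V.left)) ((EtCore.constAdj V.left).unit.app (AddCommGrpCat.of (ULift.{u + 1} M)) m) = t m :=
    fun m => ConcreteCategory.congr_hom (((EtCore.constAdj V.left).homEquiv_unit (X := AddCommGrpCat.of (ULift.{u + 1} M)) (Y := G) (f := α)).symm.trans (Equiv.apply_symm_apply _ t)) m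
  let i := (Groth.L27.EtSite.stalkPullIso g η).app F
  have key : ∀ m : ULift.{u + 1} M, i.hom ((EtCoh.stalk η).map α ((Scheme.pointSmallEtale η).toPresheafFiber
      (EtCoh.top V.left) tp (EtCoh.const V.left M).obj ((EtCore.constAdj V.left).unit.app _ m))) = germ F V s η m.down := by
    intro m
    have h1 := (GrothendieckTopology.Point.toPresheafFiber_naturality_apply (Scheme.pointSmallEtale η) α.hom
      (EtCoh.top V.left) tp ((EtCore.constAdj V.left).unit.app _ m)).trans
      (congrArg (fun r => (Scheme.pointSmallEtale η).toPresheafFiber (EtCoh.top V.left) tp G.obj r) (hα m))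
    refine (congrArg (fun r => i.hom r) h1).trans ?_
    let p : (Scheme.pointSmallEtale η).fiber.obj ((EtCoh.bc g).obj V) :=
      (Groth.L27.EtSite.fiberBcIso g η).inv.app V (selfPt V η)
    have hp : (Scheme.pointSmallEtale η).fiber.map δ tp = p := by
      apply Over.OverMorphism.ext
      show η ≫ pullback.lift (𝟙 V.left) (𝟙 V.left) rfl = pullback.lift η η _
      exact pullback.hom_ext
        (((Category.assoc _ _ _).trans ((congrArg (η ≫ ·) (pullback.lift_fst _ _ _)).trans (Category.comp_id _))).trans (pullback.lift_fst _ _ _).symm)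
        (((Category.assoc _ _ _).trans ((congrArg (η ≫ ·) (pullback.lift_snd _ _ _)).trans (Category.comp_id _))).trans (pullback.lift_snd _ _ _).symm)
    let r : G.obj.obj (op ((EtCoh.bc g).obj V)) := ((EtCoh.pullPushAdj g).unit.app F).hom.app (op V) (s m.down)
    have h2 : (Scheme.pointSmallEtale η).toPresheafFiber (EtCoh.top V.left) tp G.obj (t m) =
        (Scheme.pointSmallEtale η).toPresheafFiber ((EtCoh.bc g).obj V) p G.obj r :=
      (GrothendieckTopology.Point.toPresheafFiber_w_apply (Scheme.pointSmallEtale η) δ tp G.obj r).trans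
        (congrArg (fun z => (Scheme.pointSmallEtale η).toPresheafFiber ((EtCoh.bc g).obj V) z G.obj r) hp)
    refine (congrArg (fun r => i.hom r) h2).trans ?_
    have h3 : i.inv (germ F V s η m.down) = (Scheme.pointSmallEtale η).toPresheafFiber ((EtCoh.bc g).obj V) p G.obj r := by
      show ((Scheme.pointSmallEtale η).sheafFiberComapIso (EtCoh.bc g) (EtCoh.coverPreserving_bc g)
        AddCommGrpCat.{u + 1}).hom.app F ((GrothendieckTopology.Point.Hom.sheafFiber (A := AddCommGrpCat.{u + 1})
          (Groth.L27.EtSite.comapPointIso g η).inv).app F (germ F V s η m.down)) = _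
      refine (congrArg (fun r => ((Scheme.pointSmallEtale η).sheafFiberComapIso (EtCoh.bc g) (EtCoh.coverPreserving_bc g)
        AddCommGrpCat.{u + 1}).hom.app F r) ((ConcreteCategory.comp_apply _ _ _).symm.trans (ConcreteCategory.congr_hom
          (GrothendieckTopology.Point.toPresheafFiber_presheafFiberDesc _ _ _ V (selfPt V η)) (s m.down)))).trans ?_
      exact ConcreteCategory.congr_hom (Groth.L27.EtSite.toPresheafFiber_sheafFiberComapIso_hom
        (Scheme.pointSmallEtale η) (EtCoh.bc g) (EtCoh.coverPreserving_bc g) AddCommGrpCat.{u + 1} F V p) (s m.down)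
    refine (congrArg (fun r => i.hom r) h3.symm).trans ?_
    exact (ConcreteCategory.comp_apply _ _ _).symm.trans (ConcreteCategory.congr_hom i.inv_hom_id _)
  refine Iff.trans ?_ ((Function.Bijective.of_comp_iff _ (bijective_constGerm η tp)).trans
    Iff.rfl)
  refine Iff.trans ?_ (Function.Bijective.of_comp_iff' i.addCommGroupIsoToAddEquiv.bijective _)
  refine (Function.Bijective.of_comp_iff _ (AddEquiv.ulift : ULift.{u + 1} M ≃+ M).bijective).symm.trans ?_
  rw [show germ F V s η ∘ (AddEquiv.ulift : ULift.{u + 1} M ≃+ M) = _ from (funext key).symm]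
  exact Iff.rfl

end Groth.L28.Spz
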