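import Groth.Agent.L28.Spz.Spec
import Mathlib.AlgebraicGeometry.Morphisms.Etale
import Mathlib.AlgebraicGeometry.Morphisms.FlatMono

/-!
Morphisms of geometric points of small étale sites: independence of the field, push-forward, specializations.
-/

set_option autoImplicit false
set_option linter.style.haveILetI false

universe u

open CategoryTheory CategoryTheory.Limits AlgebraicGeometry Opposite

set_option backward.isDefEq.respectTransparency.types false

namespace Groth.L28.Spz

open Groth.L27.EtSite (closedPt topPt fiberBcIso)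

variable {X Y : Scheme.{u}}

/-- precomposing with an extension of separably closed fields -/
noncomputable def extHom {Ω Ω' : Type u} [Field Ω] [IsSepClosed Ω] [Field Ω'] [IsSepClosed Ω']
    (ζ : Spec (CommRingCat.of Ω') ⟶ Spec (CommRingCat.of Ω)) (ξ : Spec (CommRingCat.of Ω) ⟶ X) :
    Scheme.pointSmallEtale (ζ ≫ ξ) ⟶ Scheme.pointSmallEtale ξ where
  hom :=
    { app := fun W => TypeCat.ofHom fun y => Over.homMk (ζ ≫ y.left)
        ((Category.assoc _ _ _).trans (congrArg (ζ ≫ ·) (Over.w y)))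
      naturality := fun W W' g => by
        ext y
        apply Over.OverMorphism.ext
        exact (Category.assoc ζ y.left g.left).symm }

theorem bijective_extHom {Ω Ω' : Type u} [Field Ω] [IsSepClosed Ω] [Field Ω'] [IsSepClosed Ω']
    (ζ : Spec (CommRingCat.of Ω') ⟶ Spec (CommRingCat.of Ω)) (ξ : Spec (CommRingCat.of Ω) ⟶ X) (W : X.Etale) :
    Function.Bijective ((extHom ζ ξ).hom.app W) := by
  haveI : AlgebraicGeometry.Etale W.hom := W.prop
  let f : W.left ⟶ X := W.hom
  haveI : AlgebraicGeometry.Etale f := W.prop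
  refine ⟨fun y₁ y₂ h => ?_, fun z => ?_⟩
  · apply Over.OverMorphism.ext
    let a₁ : Spec (CommRingCat.of Ω) ⟶ W.left := y₁.left
    let a₂ : Spec (CommRingCat.of Ω) ⟶ W.left := y₂.left
    have w₁ : a₁ ≫ f = ξ := Over.w y₁
    have w₂ : a₂ ≫ f = ξ := Over.w y₂
    have e : ζ ≫ a₁ = ζ ≫ a₂ := congrArg (fun t : (Scheme.pointSmallEtale (ζ ≫ ξ)).fiber.obj W => t.left) h
    let d : W.left ⟶ pullback f f := pullback.diagonal f
    haveI : IsOpenImmersion d := inferInstanceAs (IsOpenImmersion (pullback.diagonal f))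
    let m : Spec (CommRingCat.of Ω) ⟶ pullback f f := pullback.lift a₁ a₂ (w₁.trans w₂.symm)
    have hd1 : d ≫ pullback.fst f f = 𝟙 _ := pullback.lift_fst _ _ _
    have hd2 : d ≫ pullback.snd f f = 𝟙 _ := pullback.lift_snd _ _ _
    have hc : ζ ≫ m = (ζ ≫ a₁) ≫ d := pullback.hom_ext
      (by rw [Category.assoc, pullback.lift_fst, Category.assoc, hd1, Category.comp_id])
      (by rw [Category.assoc, pullback.lift_snd, Category.assoc, hd2, Category.comp_id, e])
    have hr : Set.range m ⊆ Set.range d := by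
      rintro _ ⟨t, rfl⟩
      refine ⟨(ζ ≫ a₁) default, ?_⟩
      rw [← Scheme.Hom.comp_apply, ← hc, Scheme.Hom.comp_apply]
      exact congrArg m (Subsingleton.elim (α := Spec (CommRingCat.of Ω)) _ _)
    have hl := IsOpenImmersion.lift_fac d m hr
    show a₁ = a₂
    refine (pullback.lift_fst a₁ a₂ (w₁.trans w₂.symm)).symm.trans (Eq.trans ?_ (pullback.lift_snd a₁ a₂ (w₁.trans w₂.symm)))
    refine (congrArg (· ≫ pullback.fst f f) hl.symm).trans (Eq.trans ?_ (congrArg (· ≫ pullback.snd f f) hl))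
    simp only [Category.assoc, hd1, hd2]
  · let b : Spec (CommRingCat.of Ω') ⟶ W.left := z.left
    have wb : b ≫ f = ζ ≫ ξ := Over.w z
    let zb : Spec (CommRingCat.of Ω') ⟶ pullback f ξ := pullback.lift b ζ wb
    let W' : (Spec (CommRingCat.of Ω)).Etale := (EtCoh.bc ξ).obj W
    let pt : Spec (CommRingCat.of Ω) := default
    obtain ⟨y', hy'⟩ := Groth.L27.EtSite.exists_fiber (X := Spec (CommRingCat.of Ω)) (𝟙 _) W' (zb default)
      (Subsingleton.elim (α := Spec (CommRingCat.of Ω)) _ _)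
    let σ : Spec (CommRingCat.of Ω) ⟶ pullback f ξ := y'.left
    have hσ : σ ≫ pullback.snd f ξ = 𝟙 _ := Over.w y'
    haveI : AlgebraicGeometry.Etale (pullback.snd f ξ) := inferInstance
    haveI : IsOpenImmersion σ := by
      haveI : IsOpenImmersion (σ ≫ pullback.snd f ξ) := hσ ▸ inferInstance
      haveI : AlgebraicGeometry.Etale (σ ≫ pullback.snd f ξ) := hσ ▸ inferInstance
      haveI : AlgebraicGeometry.Etale σ := AlgebraicGeometry.Etale.of_comp σ (pullback.snd f ξ)
      haveI : Mono (σ ≫ pullback.snd f ξ) := hσ ▸ inferInstance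
      haveI : Mono σ := mono_of_mono σ (pullback.snd f ξ)
      exact IsOpenImmersion.of_flat_of_mono σ
    have hr : Set.range zb ⊆ Set.range σ := by
      rintro _ ⟨t, rfl⟩
      refine ⟨default, ?_⟩
      exact hy'.trans (congrArg zb (Subsingleton.elim (α := Spec (CommRingCat.of Ω')) _ _))
    have hl := IsOpenImmersion.lift_fac σ zb hr
    have hl' : IsOpenImmersion.lift σ zb hr = ζ := by
      have e2 := congrArg (· ≫ pullback.snd f ξ) hl
      simp only [Category.assoc, hσ, Category.comp_id, zb, pullback.lift_snd] at e2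
      exact e2
    refine ⟨Over.homMk (σ ≫ pullback.fst f ξ) ((Category.assoc σ (pullback.fst f ξ) f).trans ((congrArg (σ ≫ ·) pullback.condition).trans
      ((Category.assoc _ _ _).symm.trans ((congrArg (· ≫ ξ) hσ).trans (Category.id_comp _))))), ?_⟩
    apply Over.OverMorphism.ext
    show ζ ≫ σ ≫ pullback.fst f ξ = b
    rw [← Category.assoc, ← hl', hl, pullback.lift_fst]

theorem isIso_extHom {Ω Ω' : Type u} [Field Ω] [IsSepClosed Ω] [Field Ω'] [IsSepClosed Ω']
    (ζ : Spec (CommRingCat.of Ω') ⟶ Spec (CommRingCat.of Ω)) (ξ : Spec (CommRingCat.of Ω) ⟶ X) :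
    IsIso (extHom ζ ξ) := by
  haveI : ∀ W, IsIso ((extHom ζ ξ).hom.app W) := fun W =>
    (ConcreteCategory.isIso_iff_bijective _).2 (bijective_extHom ζ ξ W)
  haveI := NatIso.isIso_of_isIso_app (extHom ζ ξ).hom
  exact ⟨⟨⟨inv (extHom ζ ξ).hom⟩, GrothendieckTopology.Point.hom_ext (IsIso.inv_hom_id _),
    GrothendieckTopology.Point.hom_ext (IsIso.hom_inv_id _)⟩⟩

/-- geometric points over the same point define isomorphic points -/
theorem nonempty_iso {Ω Ω' : Type u} [Field Ω] [IsSepClosed Ω] [Field Ω'] [IsSepClosed Ω']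
    (ξ : Spec (CommRingCat.of Ω) ⟶ X) (ξ' : Spec (CommRingCat.of Ω') ⟶ X) (h : ξ default = ξ' default) :
    Nonempty (Scheme.pointSmallEtale ξ ≅ Scheme.pointSmallEtale ξ') := by
  obtain ⟨p, -, -⟩ := Scheme.Pullback.exists_preimage_pullback _ _ h
  obtain ⟨Ω'', _, _, η, -⟩ := Groth.L27.EtSite.exists_geometric_point (X := pullback ξ ξ') p
  haveI := isIso_extHom (η ≫ pullback.fst ξ ξ') ξ
  haveI := isIso_extHom (η ≫ pullback.snd ξ ξ') ξ'
  exact ⟨(asIso (extHom (η ≫ pullback.fst ξ ξ') ξ)).symm ≪≫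
    eqToIso (congrArg Scheme.pointSmallEtale (by rw [Category.assoc, pullback.condition, ← Category.assoc])) ≪≫
    asIso (extHom (η ≫ pullback.snd ξ ξ') ξ')⟩

/-- a specialization gives a morphism of points, for any geometric points over its ends -/
theorem exists_hom_of_specializes {Ω Ω' : Type u} [Field Ω] [IsSepClosed Ω] [Field Ω'] [IsSepClosed Ω']
    (ξ : Spec (CommRingCat.of Ω) ⟶ X) (ξ' : Spec (CommRingCat.of Ω') ⟶ X) (h : ξ' default ⤳ ξ default) :
    Nonempty (Scheme.pointSmallEtale ξ' ⟶ Scheme.pointSmallEtale ξ) := by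
  obtain ⟨Ω₁, _, _, Ω₁', _, _, η, η', φ, y, hy, hy'⟩ := exists_hom_over (EtCoh.top X) h
  have e1 : η default = ξ default := (Groth.L27.EtSite.fiber_apply y).symm.trans hy
  have e2 : η' default = ξ' default := (Groth.L27.EtSite.fiber_apply (φ.hom.app _ y)).symm.trans hy'
  obtain ⟨i⟩ := nonempty_iso η ξ e1
  obtain ⟨i'⟩ := nonempty_iso ξ' η' e2.symm
  exact ⟨i'.hom ≫ φ ≫ i.hom⟩

/-- morphisms of points push forward -/
noncomputable def pushHom (g : Y ⟶ X) {Ω Ω' : Type u} [Field Ω] [IsSepClosed Ω] [Field Ω'] [IsSepClosed Ω']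
    {η : Spec (CommRingCat.of Ω) ⟶ Y} {η' : Spec (CommRingCat.of Ω') ⟶ Y}
    (φ : Scheme.pointSmallEtale η' ⟶ Scheme.pointSmallEtale η) :
    Scheme.pointSmallEtale (η' ≫ g) ⟶ Scheme.pointSmallEtale (η ≫ g) where
  hom := (fiberBcIso g η).inv ≫ Functor.whiskerLeft (EtCoh.bc g) φ.hom ≫ (fiberBcIso g η').hom

/-- the tautological element of the fibre -/
noncomputable def selfPt (V : X.Etale) {Ω : Type u} [Field Ω] [IsSepClosed Ω]
    (η : Spec (CommRingCat.of Ω) ⟶ V.left) :
    (Scheme.pointSmallEtale (η ≫ V.hom)).fiber.obj V :=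
  Over.homMk η rfl

theorem pushHom_selfPt (V : X.Etale) {Ω Ω' : Type u} [Field Ω] [IsSepClosed Ω] [Field Ω'] [IsSepClosed Ω']
    {η : Spec (CommRingCat.of Ω) ⟶ V.left} {η' : Spec (CommRingCat.of Ω') ⟶ V.left}
    (φ : Scheme.pointSmallEtale η' ⟶ Scheme.pointSmallEtale η) :
    (pushHom (Y := V.left) (X := X) V.hom φ).hom.app V (selfPt V η) = selfPt V η' := by
  apply Over.OverMorphism.ext
  let δ : EtCoh.top V.left ⟶ (EtCoh.bc (X := V.left) (Y := X) V.hom).obj V := MorphismProperty.Over.homMk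
    (pullback.lift (𝟙 V.left) (𝟙 V.left) rfl : V.left ⟶ pullback V.hom V.hom) (pullback.lift_snd _ _ _)
  let p : (Scheme.pointSmallEtale η).fiber.obj ((EtCoh.bc (X := V.left) (Y := X) V.hom).obj V) :=
    (fiberBcIso (X := V.left) (Y := X) V.hom η).inv.app V (selfPt V η)
  let t : (Scheme.pointSmallEtale η).fiber.obj (EtCoh.top V.left) := Over.homMk η (Category.comp_id _)
  have hp : p = (Scheme.pointSmallEtale η).fiber.map δ t := by
    apply Over.OverMorphism.ext
    show pullback.lift η η _ = η ≫ pullback.lift (𝟙 V.left) (𝟙 V.left) rfl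
    exact pullback.hom_ext
      ((pullback.lift_fst _ _ _).trans (((congrArg (η ≫ ·) (pullback.lift_fst _ _ _)).trans (Category.comp_id _)).symm.trans (Category.assoc _ _ _).symm))
      ((pullback.lift_snd _ _ _).trans (((congrArg (η ≫ ·) (pullback.lift_snd _ _ _)).trans (Category.comp_id _)).symm.trans (Category.assoc _ _ _).symm))
  show (φ.hom.app _ p).left ≫ pullback.fst V.hom V.hom = η'
  rw [hp, NatTrans.naturality_apply φ.hom δ t]
  have ht : (φ.hom.app _ t).left = η' := by
    exact (Category.comp_id _).symm.trans (Over.w (φ.hom.app _ t))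
  show ((φ.hom.app _ t).left ≫ pullback.lift (𝟙 V.left) (𝟙 V.left) rfl) ≫ pullback.fst V.hom V.hom = η'
  rw [Category.assoc, pullback.lift_fst, ht]
  exact Category.comp_id _

theorem sheafFiber_germ {Ω Ω' : Type u} [Field Ω] [IsSepClosed Ω] [Field Ω'] [IsSepClosed Ω']
    {ξ : Spec (CommRingCat.of Ω) ⟶ X} {ξ' : Spec (CommRingCat.of Ω') ⟶ X}
    (φ : Scheme.pointSmallEtale ξ' ⟶ Scheme.pointSmallEtale ξ) (F : EtCoh.Ab X) (V : X.Etale)
    (y : (Scheme.pointSmallEtale ξ).fiber.obj V) (s : F.obj.obj (op V)) :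
    (GrothendieckTopology.Point.Hom.sheafFiber (A := AddCommGrpCat.{u + 1}) φ).app F
        ((Scheme.pointSmallEtale ξ).toPresheafFiber V y F.obj s) =
      (Scheme.pointSmallEtale ξ').toPresheafFiber V (φ.hom.app V y) F.obj s :=
  (ConcreteCategory.comp_apply _ _ _).symm.trans (ConcreteCategory.congr_hom
    (GrothendieckTopology.Point.toPresheafFiber_presheafFiberDesc _ _ _ V y) s)

end Groth.L28.Spz
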