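import Groth.Agent.L27.EtSite.StrictLocal
import Groth.Agent.L27.EtSite.Pull
import Groth.Agent.L05.Henselization.Noeth
import Groth.Agent.L05.Henselization.Strict
import Groth.Agent.L05.Henselization.StrictUniq
import Groth.Prelude.Def_Hens2
import Mathlib.AlgebraicGeometry.Morphisms.FormallyUnramified
import Mathlib.RingTheory.Flat.FaithfullyFlat.Algebra

/-!
Specializations of geometric points of the small étale site, via strict localizations.
-/

set_option autoImplicit false
set_option linter.style.haveILetI false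

universe u

open CategoryTheory CategoryTheory.Limits AlgebraicGeometry Opposite

set_option backward.isDefEq.respectTransparency.types false

namespace Groth.L28.Spz

open Groth.L27.EtSite (closedPt topPt)

variable {X : Scheme.{u}} {R : Type u} [CommRing R] [HenselianLocalRing R] [IsSepClosed (IsLocalRing.ResidueField R)]

theorem eq_of_closed {W : X.Etale} {s₁ s₂ : Spec (CommRingCat.of R) ⟶ W.left}
    (h : s₁ ≫ W.hom = s₂ ≫ W.hom) (h0 : closedPt R ≫ s₁ = closedPt R ≫ s₂) : s₁ = s₂ := by
  let g : W.left ⟶ X := W.hom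
  haveI : AlgebraicGeometry.Etale g := W.prop
  let d : W.left ⟶ pullback g g := pullback.diagonal g
  haveI : IsOpenImmersion d := inferInstanceAs (IsOpenImmersion (pullback.diagonal g))
  let m : Spec (CommRingCat.of R) ⟶ pullback g g := pullback.lift s₁ s₂ h
  have hm1 : m ≫ pullback.fst g g = s₁ := pullback.lift_fst _ _ _
  have hm2 : m ≫ pullback.snd g g = s₂ := pullback.lift_snd _ _ _
  have hd1 : d ≫ pullback.fst g g = 𝟙 _ := pullback.lift_fst _ _ _
  have hd2 : d ≫ pullback.snd g g = 𝟙 _ := pullback.lift_snd _ _ _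
  have hc : closedPt R ≫ m = (closedPt R ≫ s₁) ≫ d :=
    pullback.hom_ext (by rw [Category.assoc, hm1, Category.assoc, hd1, Category.comp_id])
      (by rw [Category.assoc, hm2, Category.assoc, hd2, Category.comp_id, h0])
  have htop : m ⁻¹ᵁ d.opensRange = ⊤ := by
    refine (IsLocalRing.closedPoint_mem_iff _).1 ?_
    show m (IsLocalRing.closedPoint R) ∈ Set.range d
    refine ⟨(closedPt R ≫ s₁) default, ?_⟩
    rw [← Scheme.Hom.comp_apply, ← hc, Scheme.Hom.comp_apply]
    exact congrArg m (IsLocalRing.PrimeSpectrum.comap_residue R _)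
  have hr : Set.range m ⊆ Set.range d := by
    rintro _ ⟨z, rfl⟩
    exact (htop.symm ▸ Set.mem_univ z : z ∈ m ⁻¹ᵁ d.opensRange)
  have hl := IsOpenImmersion.lift_fac d m hr
  have e1 : IsOpenImmersion.lift d m hr = s₁ := by
    exact Eq.trans ((Category.comp_id _).symm.trans ((congrArg (_ ≫ ·) hd1.symm).trans ((Category.assoc _ _ _).symm.trans (congrArg (· ≫ pullback.fst g g) hl)))) hm1
  have e2 : IsOpenImmersion.lift d m hr = s₂ := by
    exact Eq.trans ((Category.comp_id _).symm.trans ((congrArg (_ ≫ ·) hd2.symm).trans ((Category.assoc _ _ _).symm.trans (congrArg (· ≫ pullback.snd g g) hl)))) hm2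
  exact e1.symm.trans e2

theorem exists_lift (j : Spec (CommRingCat.of R) ⟶ X) (W : X.Etale)
    (y : (Scheme.pointSmallEtale (closedPt R ≫ j)).fiber.obj W) :
    ∃ s : Spec (CommRingCat.of R) ⟶ W.left, s ≫ W.hom = j ∧ closedPt R ≫ s = y.left := by
  let y' : (Scheme.pointSmallEtale (closedPt R)).fiber.obj ((EtCoh.bc j).obj W) :=
    (Groth.L27.EtSite.fiberBcIso j (closedPt R)).inv.app W y
  obtain ⟨σ, hσ⟩ := Groth.L27.EtSite.exists_section R _ y'
  let σ' : Spec (CommRingCat.of R) ⟶ pullback W.hom j := σ.left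
  refine ⟨σ' ≫ pullback.fst W.hom j, ?_, ?_⟩
  · have hw : σ' ≫ pullback.snd W.hom j = 𝟙 _ := MorphismProperty.Over.w σ
    rw [Category.assoc, pullback.condition, ← Category.assoc, hw, Category.id_comp]
  · have e : closedPt R ≫ σ' = y'.left :=
      congrArg (fun z : (Scheme.pointSmallEtale (closedPt R)).fiber.obj ((EtCoh.bc j).obj W) => z.left) hσ
    have e' : y'.left = pullback.lift y.left (closedPt R) (Over.w y) := rfl
    rw [← Category.assoc, e, e']
    exact pullback.lift_fst _ _ _

/-- the specialization map attached to a point of a strictly local scheme -/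
noncomputable def specHom (j : Spec (CommRingCat.of R) ⟶ X) {Ω : Type u} [Field Ω] [IsSepClosed Ω]
    (ζ : Spec (CommRingCat.of Ω) ⟶ Spec (CommRingCat.of R)) :
    Scheme.pointSmallEtale (ζ ≫ j) ⟶ Scheme.pointSmallEtale (closedPt R ≫ j) where
  hom :=
    { app := fun W => TypeCat.ofHom fun y => Over.homMk (ζ ≫ (exists_lift j W y).choose)
        ((Category.assoc _ _ _).trans (congrArg (ζ ≫ ·) (exists_lift j W y).choose_spec.1))
      naturality := fun W W' g => by
        ext y
        apply Over.OverMorphism.ext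
        let y' := (Scheme.pointSmallEtale (closedPt R ≫ j)).fiber.map g y
        show ζ ≫ (exists_lift j W' y').choose = (ζ ≫ (exists_lift j W y).choose) ≫ g.left
        rw [Category.assoc]
        refine congrArg (ζ ≫ ·) (eq_of_closed ?_ ?_)
        · rw [(exists_lift j W' y').choose_spec.1, Category.assoc,
            show g.left ≫ W'.hom = W.hom from MorphismProperty.Over.w g, (exists_lift j W y).choose_spec.1]
        · rw [(exists_lift j W' y').choose_spec.2, ← Category.assoc, (exists_lift j W y).choose_spec.2]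
          rfl }

theorem specHom_app {j : Spec (CommRingCat.of R) ⟶ X} {Ω : Type u} [Field Ω] [IsSepClosed Ω]
    (ζ : Spec (CommRingCat.of Ω) ⟶ Spec (CommRingCat.of R)) {W : X.Etale}
    (y : (Scheme.pointSmallEtale (closedPt R ≫ j)).fiber.obj W) {s : Spec (CommRingCat.of R) ⟶ W.left}
    (hs : s ≫ W.hom = j) (hy : closedPt R ≫ s = y.left) :
    ((specHom j ζ).hom.app W y).left = ζ ≫ s := by
  show ζ ≫ (exists_lift j W y).choose = ζ ≫ s
  exact congrArg (ζ ≫ ·) (eq_of_closed ((exists_lift j W y).choose_spec.1.trans hs.symm)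
    ((exists_lift j W y).choose_spec.2.trans hy.symm))

omit [HenselianLocalRing R] [IsSepClosed (IsLocalRing.ResidueField R)] in
/-- specializations in an étale scheme over `X` are realized by morphisms of points -/
theorem exists_hom_over (V : X.Etale) {a b : V.left} (h : a ⤳ b) :
    ∃ (Ω : Type u) (_ : Field Ω) (_ : IsSepClosed Ω) (Ω' : Type u) (_ : Field Ω') (_ : IsSepClosed Ω')
      (ξ : Spec (CommRingCat.of Ω) ⟶ X) (ξ' : Spec (CommRingCat.of Ω') ⟶ X)
      (φ : Scheme.pointSmallEtale ξ' ⟶ Scheme.pointSmallEtale ξ) (y : (Scheme.pointSmallEtale ξ).fiber.obj V),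
      y.left.base (default : Spec (CommRingCat.of Ω)) = b ∧
        (φ.hom.app V y).left.base (default : Spec (CommRingCat.of Ω')) = a := by
  let A := V.left.presheaf.stalk b
  obtain ⟨S, _, _, _, _, hS⟩ := Groth.L05.Henselization.exists_isStrictHenselization A
  haveI := hS.henselian
  haveI : IsSepClosed (IsLocalRing.ResidueField S) :=
    haveI := hS.isSepClosure
    IsSepClosure.sep_closed (IsLocalRing.ResidueField A)
  haveI := Groth.L05.Henselization.flat_of_isStrictHenselization A S
  haveI : Module.FaithfullyFlat A S := Groth.L05.Henselization.faithfullyFlat_of_flat_local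
  let jV : Spec (CommRingCat.of S) ⟶ V.left := Hens2.specOf V.left b S
  obtain ⟨p, hp⟩ : a ∈ Set.range (V.left.fromSpecStalk b) := by rw [Scheme.range_fromSpecStalk]; exact h
  obtain ⟨P, hP⟩ := PrimeSpectrum.comap_surjective_of_faithfullyFlat (A := A) (B := S) p
  obtain ⟨Ω', _, _, ζ, hζ⟩ := Groth.L27.EtSite.exists_geometric_point (X := Spec (CommRingCat.of S)) P
  let y : (Scheme.pointSmallEtale (closedPt S ≫ jV ≫ V.hom)).fiber.obj V :=
    Over.homMk (closedPt S ≫ jV) (Category.assoc _ _ _)
  refine ⟨IsLocalRing.ResidueField S, inferInstance, inferInstance, Ω', inferInstance, inferInstance,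
    closedPt S ≫ jV ≫ V.hom, ζ ≫ jV ≫ V.hom, specHom (jV ≫ V.hom) ζ, y, ?_, ?_⟩
  · show (closedPt S ≫ jV) default = b
    rw [Scheme.Hom.comp_apply, show closedPt S default = IsLocalRing.closedPoint S from
      IsLocalRing.PrimeSpectrum.comap_residue S _]
    show V.left.fromSpecStalk b (PrimeSpectrum.comap (algebraMap A S) (IsLocalRing.closedPoint S)) = b
    rw [IsLocalRing.comap_closedPoint, Scheme.fromSpecStalk_closedPoint]
  · rw [show ((specHom (jV ≫ V.hom) ζ).hom.app V y).left = ζ ≫ jV from specHom_app ζ y rfl rfl]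
    show (ζ ≫ jV) default = a
    rw [Scheme.Hom.comp_apply, hζ]
    show V.left.fromSpecStalk b (PrimeSpectrum.comap (algebraMap A S) P) = a
    rw [hP, hp]

end Groth.L28.Spz
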