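import Groth.Agent.L28.ProEt.HensLift
import Groth.Agent.L05.Henselization.StrictUniq
import Groth.Agent.L05.Henselization.Noeth
import Groth.Prelude.Def_Hens2
import Mathlib.RingTheory.Etale.Field
import Mathlib.FieldTheory.IsSepClosed
import Mathlib.RingTheory.Flat.FaithfullyFlat.Algebra

/-!
Morphisms between strict localizations.
-/

set_option autoImplicit false
set_option linter.style.haveILetI false

universe u

open CategoryTheory AlgebraicGeometry IsLocalRing TensorProduct

namespace Groth.L28.Spz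

theorem mem_range_of_etale {K E L : Type u} [Field K] [IsSepClosed K] [CommRing E] [Algebra K E] [Algebra.Etale K E]
    [Field L] [Algebra K L] (ψ : E →ₐ[K] L) (e : E) : ψ e ∈ Set.range (algebraMap K L) := by
  haveI : (RingHom.ker ψ.toRingHom).IsPrime := RingHom.ker_isPrime _
  let p := RingHom.ker ψ.toRingHom
  haveI : Algebra.IsSeparable K (E ⧸ p) := inferInstance
  let φ : E ⧸ p →ₐ[K] L := Ideal.Quotient.liftₐ p ψ fun x hx => hx
  have hφ : Function.Injective φ := RingHom.lift_injective_of_ker_le_ideal p _ le_rfl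
  have hs : IsSeparable K (ψ e) := by
    have h := Algebra.IsSeparable.isSeparable K (Ideal.Quotient.mk p e)
    rw [IsSeparable, ← minpoly.algHom_eq φ hφ] at h
    exact h
  have hi : IsIntegral K (ψ e) := hs.isIntegral
  exact minpoly.degree_eq_one_iff.1
    (IsSepClosed.degree_eq_one_of_irreducible K (minpoly.irreducible hi) hs)

theorem exists_point {A R k : Type u} [CommRing A] [CommRing R] [Algebra A R] [Module.FaithfullyFlat A R]
    (hR : EtPBC.IsIndEtale A R) [Field k] [IsSepClosed k] [Algebra A k] : Nonempty (R →ₐ[A] k) := by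
  haveI : Nontrivial (k ⊗[A] R) := Module.FaithfullyFlat.rTensor_nontrivial (R := A) (M := R) k
  obtain ⟨m, hm⟩ := Ideal.exists_maximal (k ⊗[A] R)
  letI := Ideal.Quotient.field m
  let f : R →ₐ[A] (k ⊗[A] R) ⧸ m := (Ideal.Quotient.mkₐ A m).comp Algebra.TensorProduct.includeRight
  let g : k →ₐ[A] (k ⊗[A] R) ⧸ m := IsScalarTower.toAlgHom A k _
  have hg : Function.Injective g := g.toRingHom.injective
  have hf : ∀ x, f x ∈ g.range := by
    intro x
    obtain ⟨E, _, _, α, β, hE, hαβ⟩ := (L27.IndEtale.isIndEtale_iff_exists_factor A R).1 hR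
      (MvPolynomial (Fin 1) A) (MvPolynomial.aeval fun _ => x)
    let ψ : k ⊗[A] E →ₐ[k] (k ⊗[A] R) ⧸ m :=
      (Ideal.Quotient.mkₐ k m).comp (Algebra.TensorProduct.map (AlgHom.id k k) β)
    obtain ⟨c, hc⟩ := mem_range_of_etale ψ (1 ⊗ₜ α (MvPolynomial.X 0))
    refine ⟨c, hc.trans ?_⟩
    show Ideal.Quotient.mk m ((1 : k) ⊗ₜ β (α (MvPolynomial.X 0))) = Ideal.Quotient.mk m (1 ⊗ₜ x)
    rw [show β (α (MvPolynomial.X 0)) = x by rw [← AlgHom.comp_apply, hαβ, MvPolynomial.aeval_X]]
  exact ⟨(AlgEquiv.ofInjective g hg).symm.toAlgHom.comp (f.codRestrict g.range hf)⟩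

theorem existsUnique_strictLift {A R R' : Type u} [CommRing A] [IsLocalRing A] [CommRing R] [IsLocalRing R]
    [Algebra A R] [IsLocalHom (algebraMap A R)] [Hensel.IsStrictHenselization A R]
    [CommRing R'] [HenselianLocalRing R'] [Algebra A R'] (h : R →ₐ[A] ResidueField R') :
    ∃! τ : R →ₐ[A] R', ∀ x, residue R' (τ x) = h x := by
  obtain ⟨τ, hτ, huniq⟩ := ProEt.HensLift.existsUnique_lift
    (Groth.L05.Henselization.isIndEtale_of_isStrictHenselization A R) (maximalIdeal R') h
  exact ⟨τ, fun x => AlgHom.congr_fun hτ x, fun τ' h' => huniq τ' (AlgHom.ext h')⟩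

variable {X : Scheme.{u}} {x x' : X}
  {R : Type u} [CommRing R] [Algebra (X.presheaf.stalk x) R]
  {R' : Type u} [CommRing R'] [Algebra (X.presheaf.stalk x') R']

/-- morphisms over `X` are ring maps over the local ring -/
theorem comp_specOf_iff (hs : x' ⤳ x) {B : Type u} [CommRing B] (g : R →+* B) (b : R' →+* B) :
    Spec.map (CommRingCat.ofHom g) ≫ Hens2.specOf X x R =
        Spec.map (CommRingCat.ofHom b) ≫ Hens2.specOf X x' R' ↔
      g.comp (algebraMap (X.presheaf.stalk x) R) =
        (b.comp (algebraMap (X.presheaf.stalk x') R')).comp (X.presheaf.stalkSpecializes hs).hom := by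
  rw [Hens2.specOf, Hens2.specOf, ← Scheme.SpecMap_stalkSpecializes_fromSpecStalk hs, ← Category.assoc,
    ← Category.assoc, ← Category.assoc, cancel_mono, ← Spec.map_comp, ← Spec.map_comp, ← Spec.map_comp,
    Spec.map_inj, CommRingCat.hom_ext_iff]
  rfl

theorem specializes_of_hom {T : Scheme.{u}} {g : T ⟶ Spec (CommRingCat.of R)} {t : T}
    (h : (g ≫ Hens2.specOf X x R) t = x') : x' ⤳ x := by
  have h2 : (g ≫ Hens2.specOf X x R) t ∈ Set.range (X.fromSpecStalk x) := ⟨_, rfl⟩
  rw [h, Scheme.range_fromSpecStalk] at h2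
  exact h2

theorem specOf_closedPoint [IsLocalRing R] [IsLocalHom (algebraMap (X.presheaf.stalk x) R)] :
    Hens2.specOf X x R (closedPoint R) = x := by
  show X.fromSpecStalk x (PrimeSpectrum.comap (algebraMap (X.presheaf.stalk x) R) (closedPoint R)) = x
  rw [comap_closedPoint, Scheme.fromSpecStalk_closedPoint]

variable [IsLocalRing R] [IsLocalHom (algebraMap (X.presheaf.stalk x) R)]
  [Hensel.IsStrictHenselization (X.presheaf.stalk x) R]
  [IsLocalRing R'] [IsLocalHom (algebraMap (X.presheaf.stalk x') R')]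
  [Hensel.IsStrictHenselization (X.presheaf.stalk x') R']

theorem strictLift_unique {g₁ g₂ : Spec (CommRingCat.of R') ⟶ Spec (CommRingCat.of R)}
    (h₁ : g₁ ≫ Hens2.specOf X x R = Hens2.specOf X x' R') (h₂ : g₂ ≫ Hens2.specOf X x R = Hens2.specOf X x' R')
    (h : Spec.map (CommRingCat.ofHom (residue R')) ≫ g₁ = Spec.map (CommRingCat.ofHom (residue R')) ≫ g₂) :
    g₁ = g₂ := by
  have hs : x' ⤳ x := specializes_of_hom (g := g₁) (t := closedPoint R') (by rw [h₁]; exact specOf_closedPoint)
  haveI := (inferInstance : Hensel.IsStrictHenselization (X.presheaf.stalk x') R').henselian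
  letI : Algebra (X.presheaf.stalk x) R' :=
    ((algebraMap (X.presheaf.stalk x') R').comp (X.presheaf.stalkSpecializes hs).hom).toAlgebra
  obtain ⟨φ₁, rfl⟩ := Spec.map_surjective g₁
  obtain ⟨φ₂, rfl⟩ := Spec.map_surjective g₂
  have key : ∀ φ : CommRingCat.of R ⟶ CommRingCat.of R',
      Spec.map φ ≫ Hens2.specOf X x R = Hens2.specOf X x' R' →
      φ.hom.comp (algebraMap (X.presheaf.stalk x) R) = algebraMap (X.presheaf.stalk x) R' := fun φ hφ => by
    have := (comp_specOf_iff (R := R) (R' := R') hs φ.hom (RingHom.id R')).1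
      (by rw [CommRingCat.ofHom_id, Spec.map_id, Category.id_comp]; exact hφ)
    exact this
  let τ₁ : R →ₐ[X.presheaf.stalk x] R' := ⟨φ₁.hom, RingHom.congr_fun (key _ h₁)⟩
  let τ₂ : R →ₐ[X.presheaf.stalk x] R' := ⟨φ₂.hom, RingHom.congr_fun (key _ h₂)⟩
  rw [← Spec.map_comp, ← Spec.map_comp, Spec.map_inj] at h
  have e : τ₁ = τ₂ :=
    (existsUnique_strictLift ((IsScalarTower.toAlgHom (X.presheaf.stalk x) R' (ResidueField R')).comp τ₁)).unique
      (fun _ => rfl) (fun r => (ConcreteCategory.congr_hom h r).symm)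
  exact congrArg Spec.map (CommRingCat.hom_ext (congrArg AlgHom.toRingHom e))

theorem strictLift_exists {h : Spec (CommRingCat.of (ResidueField R')) ⟶ Spec (CommRingCat.of R)}
    (hh : h ≫ Hens2.specOf X x R = Hens2.geomPt X x' R') :
    ∃ g : Spec (CommRingCat.of R') ⟶ Spec (CommRingCat.of R),
      g ≫ Hens2.specOf X x R = Hens2.specOf X x' R' ∧ Spec.map (CommRingCat.ofHom (residue R')) ≫ g = h := by
  have hs : x' ⤳ x := specializes_of_hom (g := h) (t := default) (by
    rw [hh, Hens2.geomPt, Scheme.Hom.comp_apply,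
      show Spec.map (CommRingCat.ofHom (residue R')) default = closedPoint R' from
        PrimeSpectrum.comap_residue R' _]
    exact specOf_closedPoint)
  haveI := (inferInstance : Hensel.IsStrictHenselization (X.presheaf.stalk x') R').henselian
  letI : Algebra (X.presheaf.stalk x) R' :=
    ((algebraMap (X.presheaf.stalk x') R').comp (X.presheaf.stalkSpecializes hs).hom).toAlgebra
  obtain ⟨φ, rfl⟩ := Spec.map_surjective h
  have hφ := (comp_specOf_iff (R := R) (R' := R') hs φ.hom (residue R')).1 hh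
  let σ : R →ₐ[X.presheaf.stalk x] ResidueField R' := ⟨φ.hom, RingHom.congr_fun hφ⟩
  obtain ⟨τ, hτ, -⟩ := existsUnique_strictLift σ
  refine ⟨Spec.map (CommRingCat.ofHom τ.toRingHom), ?_, ?_⟩
  · have := (comp_specOf_iff (R := R) (R' := R') hs τ.toRingHom (RingHom.id R')).2 (RingHom.ext τ.commutes)
    rwa [CommRingCat.ofHom_id, Spec.map_id, Category.id_comp] at this
  · rw [← Spec.map_comp]
    exact congrArg Spec.map (CommRingCat.hom_ext (RingHom.ext hτ))

theorem strictLift_of_specializes (hs : x' ⤳ x) :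
    ∃ g : Spec (CommRingCat.of R') ⟶ Spec (CommRingCat.of R), g ≫ Hens2.specOf X x R = Hens2.specOf X x' R' := by
  let A := X.presheaf.stalk x
  haveI := (inferInstance : Hensel.IsStrictHenselization (X.presheaf.stalk x') R').henselian
  haveI hsc := (inferInstance : Hensel.IsStrictHenselization (X.presheaf.stalk x') R').isSepClosure
  haveI : IsSepClosed (ResidueField R') := hsc.sep_closed
  letI : Algebra A R' :=
    ((algebraMap (X.presheaf.stalk x') R').comp (X.presheaf.stalkSpecializes hs).hom).toAlgebra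
  haveI := Groth.L05.Henselization.flat_of_isStrictHenselization A R
  haveI : Module.FaithfullyFlat A R := Groth.L05.Henselization.faithfullyFlat_of_flat_local
  obtain ⟨σ⟩ := exists_point (k := ResidueField R') (Groth.L05.Henselization.isIndEtale_of_isStrictHenselization A R)
  obtain ⟨g, hg, -⟩ := strictLift_exists (R := R) (R' := R') (x := x) (x' := x')
    (h := Spec.map (CommRingCat.ofHom σ.toRingHom))
    ((comp_specOf_iff (R := R) (R' := R') hs σ.toRingHom (residue R')).2 (RingHom.ext σ.commutes))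
  exact ⟨g, hg⟩

end Groth.L28.Spz
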