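import Groth.Agent.L28.Spz.Lift
import Groth.Agent.L28.ExtShriek.Pres
import Groth.Agent.L28.ExtShriek.Local
import Mathlib.Algebra.Group.Shrink
import Mathlib.Logic.Small.Basic
import Mathlib.AlgebraicGeometry.PullbackCarrier

/-!
Lifting finite stalks to étale neighbourhoods and trivialising sheaves there.
-/

set_option autoImplicit false
set_option linter.style.haveILetI false

universe u

open CategoryTheory CategoryTheory.Limits AlgebraicGeometry Opposite

set_option backward.isDefEq.respectTransparency.types false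

namespace Groth.L28.Spz

variable {X : Scheme.{u}}

theorem exists_common_germs {Ω : Type u} [Field Ω] [IsSepClosed Ω] (ξ : Spec (CommRingCat.of Ω) ⟶ X)
    (F : EtCoh.Ab X) {ι : Type*} (S : Finset ι) (a : ι → (EtCoh.stalk ξ).obj F)
    (hne : ∃ V : X.Etale, Nonempty ((Scheme.pointSmallEtale ξ).fiber.obj V)) :
    ∃ (V : X.Etale) (y : (Scheme.pointSmallEtale ξ).fiber.obj V),
      ∀ i ∈ S, ∃ s : F.obj.obj (op V), (Scheme.pointSmallEtale ξ).toPresheafFiber V y F.obj s = a i := by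
  classical
  let Φ := Scheme.pointSmallEtale ξ
  induction S using Finset.induction with
  | empty =>
    obtain ⟨V, ⟨y⟩⟩ := hne
    exact ⟨V, y, fun i hi => absurd hi (Finset.notMem_empty i)⟩
  | insert i S hi ih =>
    obtain ⟨V, y, h⟩ := ih
    obtain ⟨V', y', s', hs'⟩ := Φ.toPresheafFiber_jointly_surjective (P := F.obj) (a i)
    let A := Φ.fiber.elementsMk V y
    let B := Φ.fiber.elementsMk V' y'
    let f := IsCofiltered.minToLeft A B
    let g := IsCofiltered.minToRight A B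
    refine ⟨(IsCofiltered.min A B).1, (IsCofiltered.min A B).2, fun j hj => ?_⟩
    rcases Finset.mem_insert.1 hj with rfl | hj
    · refine ⟨F.obj.map g.1.op s', ?_⟩
      rw [GrothendieckTopology.Point.toPresheafFiber_w_apply, g.2]
      exact hs'
    · obtain ⟨s, hs⟩ := h j hj
      refine ⟨F.obj.map f.1.op s, ?_⟩
      rw [GrothendieckTopology.Point.toPresheafFiber_w_apply, f.2]
      exact hs

theorem exists_common_eqs {Ω : Type u} [Field Ω] [IsSepClosed Ω] (ξ : Spec (CommRingCat.of Ω) ⟶ X)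
    (F : EtCoh.Ab X) {ι : Type*} (S : Finset ι) {V : X.Etale} (y : (Scheme.pointSmallEtale ξ).fiber.obj V)
    (s t : ι → F.obj.obj (op V))
    (h : ∀ i, (Scheme.pointSmallEtale ξ).toPresheafFiber V y F.obj (s i) =
      (Scheme.pointSmallEtale ξ).toPresheafFiber V y F.obj (t i)) :
    ∃ (V' : X.Etale) (g : V' ⟶ V) (y' : (Scheme.pointSmallEtale ξ).fiber.obj V'),
      (Scheme.pointSmallEtale ξ).fiber.map g y' = y ∧ ∀ i ∈ S, F.obj.map g.op (s i) = F.obj.map g.op (t i) := by
  classical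
  let Φ := Scheme.pointSmallEtale ξ
  induction S using Finset.induction with
  | empty =>
    exact ⟨V, 𝟙 V, y, ConcreteCategory.congr_hom (Φ.fiber.map_id V) y, fun i hi => absurd hi (Finset.notMem_empty i)⟩
  | insert i S hi ih =>
    obtain ⟨V', g, y', hy, hg⟩ := ih
    obtain ⟨V'', g', y'', hy', hg'⟩ := (Φ.toPresheafFiber_eq_iff' V' y' (F.obj.map g.op (s i)) (F.obj.map g.op (t i))).1
      (by rw [GrothendieckTopology.Point.toPresheafFiber_w_apply, GrothendieckTopology.Point.toPresheafFiber_w_apply, hy]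
          exact h i)
    refine ⟨V'', g' ≫ g, y'', ?_, fun j hj => ?_⟩
    · rw [Functor.map_comp, ConcreteCategory.comp_apply, hy', hy]
    · rw [op_comp, F.obj.map_comp, ConcreteCategory.comp_apply, ConcreteCategory.comp_apply]
      rcases Finset.mem_insert.1 hj with rfl | hj
      · exact hg'
      · rw [hg j hj]

/-- the germ map at an element of a geometric fibre -/
noncomputable def germY {M : Type} [AddCommGroup M] (F : EtCoh.Ab X) (V : X.Etale) (s : M →+ F.obj.obj (op V))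
    {Ω : Type u} [Field Ω] [IsSepClosed Ω] {ξ : Spec (CommRingCat.of Ω) ⟶ X}
    (y : (Scheme.pointSmallEtale ξ).fiber.obj V) : M → (EtCoh.stalk ξ).obj F :=
  fun m => (Scheme.pointSmallEtale ξ).toPresheafFiber V y F.obj (s m)

theorem bijective_germ_of_germY {M : Type} [AddCommGroup M] {F : EtCoh.Ab X} {V : X.Etale} {s : M →+ F.obj.obj (op V)}
    {Ω : Type u} [Field Ω] [IsSepClosed Ω] {ξ : Spec (CommRingCat.of Ω) ⟶ X}
    (y : (Scheme.pointSmallEtale ξ).fiber.obj V) (η : Spec (CommRingCat.of Ω) ⟶ V.left) (hη : y.left = η)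
    (h : Function.Bijective (germY F V s y)) : Function.Bijective (germ F V s η) := by
  have w : η ≫ V.hom = ξ := hη ▸ Over.w y
  subst w
  obtain rfl : y = selfPt V η := Over.OverMorphism.ext hη
  exact h

/-- a finite stalk lifts to sections on an affine étale neighbourhood -/
theorem exists_lift_stalk {Ω : Type u} [Field Ω] [IsSepClosed Ω] (ξ : Spec (CommRingCat.of Ω) ⟶ X)
    (F : EtCoh.Ab X) (hfin : Finite ((EtCoh.stalk ξ).obj F)) :
    ∃ (V : X.Etale) (_ : IsAffine V.left) (y : (Scheme.pointSmallEtale ξ).fiber.obj V)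
      (M : Type) (_ : AddCommGroup M) (_ : Finite M) (s : M →+ F.obj.obj (op V)),
      Function.Bijective (germY F V s y) := by
  classical
  haveI := hfin
  let Φ := Scheme.pointSmallEtale ξ
  let St := (EtCoh.stalk ξ).obj F
  haveI : Small.{0} St := Countable.toSmall _
  let e : Shrink.{0} St ≃+ St := Shrink.addEquiv
  haveI : Finite (Shrink.{0} St) := Finite.of_equiv _ e.toEquiv.symm
  haveI := Fintype.ofFinite (Shrink.{0} St)
  obtain ⟨V₀, y₀, h₀⟩ := exists_common_germs ξ F Finset.univ (fun m : Shrink.{0} St => e m)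
    ⟨EtCoh.top X, ⟨Over.homMk ξ (Category.comp_id _)⟩⟩
  choose r hr using fun m => h₀ m (Finset.mem_univ m)
  obtain ⟨V₁, g, y₁, hy₁, hg⟩ := exists_common_eqs ξ F (Finset.univ (α := Shrink.{0} St × Shrink.{0} St)) y₀
    (fun p => r (p.1 + p.2)) (fun p => r p.1 + r p.2) (fun p => by
      rw [map_add]
      exact (hr _).trans ((map_add e _ _).trans (congrArg₂ (· + ·) (hr p.1).symm (hr p.2).symm)))
  obtain ⟨V, g', y, hV, hy⟩ := ExtShriek.exists_affine_refine V₁ y₁
  let s : Shrink.{0} St →+ F.obj.obj (op V) := AddMonoidHom.mk' (fun m => F.obj.map g'.op (F.obj.map g.op (r m)))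
    fun a b => (congrArg (fun z => F.obj.map g'.op z) ((hg (a, b) (Finset.mem_univ _)).trans (map_add _ _ _))).trans
      (map_add _ _ _)
  refine ⟨V, hV, y, Shrink.{0} St, inferInstance, inferInstance, s, ?_⟩
  have : germY F V s y = e := funext fun m => by
    show Φ.toPresheafFiber V y F.obj (F.obj.map g'.op (F.obj.map g.op (r m))) = e m
    rw [GrothendieckTopology.Point.toPresheafFiber_w_apply, hy, GrothendieckTopology.Point.toPresheafFiber_w_apply, hy₁]
    exact hr m
  rw [this]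
  exact e.bijective

theorem isIso_pushHom {Y : Scheme.{u}} (g : Y ⟶ X) {Ω Ω' : Type u} [Field Ω] [IsSepClosed Ω] [Field Ω'] [IsSepClosed Ω']
    {η : Spec (CommRingCat.of Ω) ⟶ Y} {η' : Spec (CommRingCat.of Ω') ⟶ Y}
    (φ : Scheme.pointSmallEtale η' ⟶ Scheme.pointSmallEtale η) [IsIso φ] : IsIso (pushHom g φ) := by
  haveI : IsIso φ.hom := ⟨(inv φ).hom, congrArg (fun f => f.hom) (IsIso.inv_hom_id φ),
    congrArg (fun f => f.hom) (IsIso.hom_inv_id φ)⟩
  haveI : IsIso (pushHom g φ).hom := inferInstanceAs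
    (IsIso ((Groth.L27.EtSite.fiberBcIso g η).inv ≫ Functor.whiskerLeft (EtCoh.bc g) φ.hom ≫
      (Groth.L27.EtSite.fiberBcIso g η').hom))
  exact ⟨⟨inv (pushHom g φ).hom⟩, GrothendieckTopology.Point.hom_ext (IsIso.inv_hom_id _),
    GrothendieckTopology.Point.hom_ext (IsIso.hom_inv_id _)⟩

theorem bijective_sheafFiber {Ω Ω' : Type u} [Field Ω] [IsSepClosed Ω] [Field Ω'] [IsSepClosed Ω']
    {ξ : Spec (CommRingCat.of Ω) ⟶ X} {ξ' : Spec (CommRingCat.of Ω') ⟶ X}
    (φ : Scheme.pointSmallEtale ξ' ⟶ Scheme.pointSmallEtale ξ) [IsIso φ] (F : EtCoh.Ab X) :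
    Function.Bijective ((GrothendieckTopology.Point.Hom.sheafFiber (A := AddCommGrpCat.{u + 1}) φ).app F) := by
  haveI : IsIso (GrothendieckTopology.Point.Hom.sheafFiber (A := AddCommGrpCat.{u + 1}) φ) :=
    ⟨GrothendieckTopology.Point.Hom.sheafFiber (inv φ),
      (GrothendieckTopology.Point.Hom.sheafFiber_comp (A := AddCommGrpCat.{u + 1}) (inv φ) φ).symm.trans
        ((congrArg (fun f => GrothendieckTopology.Point.Hom.sheafFiber f) (IsIso.inv_hom_id φ)).trans (GrothendieckTopology.Point.Hom.sheafFiber_id _)),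
      (GrothendieckTopology.Point.Hom.sheafFiber_comp (A := AddCommGrpCat.{u + 1}) φ (inv φ)).symm.trans
        ((congrArg (fun f => GrothendieckTopology.Point.Hom.sheafFiber f) (IsIso.hom_inv_id φ)).trans (GrothendieckTopology.Point.Hom.sheafFiber_id _))⟩
  exact ConcreteCategory.bijective_of_isIso _

theorem bijective_germ_of_iso {M : Type} [AddCommGroup M] {F : EtCoh.Ab X} {V : X.Etale} {s : M →+ F.obj.obj (op V)}
    {Ω Ω' : Type u} [Field Ω] [IsSepClosed Ω] [Field Ω'] [IsSepClosed Ω']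
    {η : Spec (CommRingCat.of Ω) ⟶ V.left} (η' : Spec (CommRingCat.of Ω') ⟶ V.left) (h : η default = η' default)
    (hb : Function.Bijective (germ F V s η)) : Function.Bijective (germ F V s η') := by
  obtain ⟨i⟩ := nonempty_iso η' η h.symm
  haveI := isIso_pushHom (Y := V.left) (X := X) V.hom i.hom
  have hb' := (bijective_sheafFiber (pushHom (Y := V.left) (X := X) V.hom i.hom) F).comp hb
  rw [show ⇑((GrothendieckTopology.Point.Hom.sheafFiber (A := AddCommGrpCat.{u + 1})
    (pushHom (Y := V.left) (X := X) V.hom i.hom)).app F) ∘ germ F V s η = germ F V s η' from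
      funext (germ_map F V s i.hom)] at hb'
  exact hb'

/-- where the germs are bijective the sheaf is locally constant -/
theorem isFLC_of_germs {T : Scheme.{u}} (g : T ⟶ X) {M : Type} [AddCommGroup M] [Finite M] (F : EtCoh.Ab X) (V : X.Etale)
    (s : M →+ F.obj.obj (op V)) (U : T.Opens)
    (O : (pullback g V.hom).Opens)
    (hOU : ∀ t ∈ U, ∃ o ∈ O, pullback.fst g V.hom o = t)
    (hO : ∀ o ∈ O, ∃ (Ω : Type u) (_ : Field Ω) (_ : IsSepClosed Ω) (η : Spec (CommRingCat.of Ω) ⟶ V.left),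
      η default = pullback.snd g V.hom o ∧ Function.Bijective (germ F V s η)) :
    EtCoh.IsFiniteLocallyConstant ((EtCoh.pull (U.ι ≫ g)).obj F) := by
  let h : V.left ⟶ X := V.hom
  haveI : AlgebraicGeometry.Etale h := V.prop
  let fst : pullback g h ⟶ T := pullback.fst g h
  let snd : pullback g h ⟶ V.left := pullback.snd g h
  let O' : (pullback g h).Opens := O ⊓ fst ⁻¹ᵁ U
  have hr : Set.range (O'.ι ≫ fst) ⊆ Set.range U.ι := by
    rintro _ ⟨o, rfl⟩
    rw [Scheme.Opens.range_ι]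
    exact o.2.2
  let k : (O' : Scheme.{u}) ⟶ (U : Scheme.{u}) := IsOpenImmersion.lift U.ι (O'.ι ≫ fst) hr
  have hk : k ≫ U.ι = O'.ι ≫ fst := IsOpenImmersion.lift_fac _ _ _
  haveI : AlgebraicGeometry.Etale (k ≫ U.ι) := by rw [hk]; infer_instance
  haveI : AlgebraicGeometry.Etale k := AlgebraicGeometry.Etale.of_comp k U.ι
  refine ExtShriek.isFLC_of_cover fun t => ⟨O', k, inferInstance, ?_, ?_⟩
  · obtain ⟨o, ho, hot⟩ := hOU t.1 t.2
    refine ⟨⟨o, ho, (show fst o ∈ U from (hot : fst o = t.1).symm ▸ t.2)⟩, U.ι.isOpenEmbedding.injective ?_⟩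
    rw [← Scheme.Hom.comp_apply, hk]
    exact hot
  obtain ⟨α, hα⟩ := exists_alpha F V s
  let G : EtCoh.Ab V.left := (EtCoh.pull h).obj F
  haveI : IsIso ((EtCoh.pull (O'.ι ≫ snd)).map α) := by
    have hb : ∀ o : O', ∃ (Ω : Type u) (_ : Field Ω) (_ : IsSepClosed Ω) (ξ : Spec (CommRingCat.of Ω) ⟶ O'),
        ξ.base default = o ∧ Function.Bijective ((EtCoh.stalk ξ).map ((EtCoh.pull (O'.ι ≫ snd)).map α)) := by
      intro o
      obtain ⟨Ω₀, _, _, η, hη, hb⟩ := hO o.1 o.2.1
      obtain ⟨Ω, _, _, ξ, hξ⟩ := Groth.L27.EtSite.exists_geometric_point (X := (O' : Scheme.{u})) o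
      refine ⟨Ω, inferInstance, inferInstance, ξ, hξ, ?_⟩
      have hb' : Function.Bijective ((EtCoh.stalk (ξ ≫ O'.ι ≫ snd)).map α) := (hα Ω _).1
        (bijective_germ_of_iso _ (hη.trans (by rw [← hξ]; rfl)) hb)
      have hi : IsIso ((EtCoh.stalk (ξ ≫ O'.ι ≫ snd)).map α) := (ConcreteCategory.isIso_iff_bijective _).2 hb'
      exact (ConcreteCategory.isIso_iff_bijective _).1 (((MorphismProperty.isomorphisms _).arrow_mk_iso_iff
        (((Functor.mapArrowFunctor _ _).mapIso (Groth.L27.EtSite.stalkPullIso (O'.ι ≫ snd) ξ)).app (Arrow.mk α))).2 hi)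
    refine (Sheaf.isLocallyBijective_iff_isIso _).1
      ⟨Groth.L27.EtSite.isLocallyInjective_of_some_stalks _ fun y => ?_,
        Groth.L27.EtSite.isLocallySurjective_of_some_stalks _ fun y => ?_⟩
    · obtain ⟨Ω, h1, h2, ξ, hξ, h⟩ := hb y; exact ⟨Ω, h1, h2, ξ, hξ, h.1⟩
    · obtain ⟨Ω, h1, h2, ξ, hξ, h⟩ := hb y; exact ⟨Ω, h1, h2, ξ, hξ, h.2⟩
  have e : (O'.ι ≫ snd) ≫ h = k ≫ U.ι ≫ g := by
    rw [← Category.assoc k, hk, Category.assoc, Category.assoc]
    exact congrArg (O'.ι ≫ ·) pullback.condition.symm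
  exact Strata.isFLC_of_iso (asIso ((EtCoh.pull (O'.ι ≫ snd)).map α) ≪≫
    ((EtCore.pullComp (O'.ι ≫ snd) h).app F).symm ≪≫ eqToIso (congrArg (fun m => (EtCoh.pull m).obj F) e) ≪≫
    (EtCore.pullComp k (U.ι ≫ g)).app F)
    (LocConst.isFiniteLocallyConstant_pull _ _ (ExtShriek.isFLC_const V.left M))

end Groth.L28.Spz
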